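import Groth.Agent.BlowUpLib.Glue
import Groth.Agent.BlowUpX.Basic
import Groth.Agent.Graft.Extend
import Groth.Agent.FComplLib.IdealComap

/-!
# Admissible blowing ups: domination and extension
-/

universe u

open CategoryTheory CategoryTheory.Limits AlgebraicGeometry TopologicalSpace

namespace Groth.Agent.BlowUpX

variable {X : Scheme.{u}} {U : X.Opens}

theorem isAdmissible_top : BlowUp.IsAdmissibleFor U (⊤ : X.IdealSheafData) :=
  ⟨fun V => by
    rw [Scheme.IdealSheafData.ideal_top, Pi.top_apply]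
    exact ⟨{1}, by simp⟩,
    by simp [Set.disjoint_left]⟩

theorem isAdmissible_mul {I J : X.IdealSheafData} (hI : BlowUp.IsAdmissibleFor U I)
    (hJ : BlowUp.IsAdmissibleFor U J) : BlowUp.IsAdmissibleFor U (I * J) := by
  refine ⟨fun V => ?_, ?_⟩
  · rw [Scheme.IdealSheafData.ideal_mul, Pi.mul_apply]
    exact Ideal.FG.mul (hI.1 V) (hJ.1 V)
  · rw [Scheme.IdealSheafData.support_mul, Closeds.coe_sup]
    exact Set.disjoint_union_left.mpr ⟨hI.2, hJ.2⟩

theorem isAdmissible_comap {Y : Scheme.{u}} (f : Y ⟶ X) {I : X.IdealSheafData}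
    (hI : BlowUp.IsAdmissibleFor U I) : BlowUp.IsAdmissibleFor (f ⁻¹ᵁ U) (I.comap f) := by
  refine ⟨MorLib.IdealFG.isFG_comap hI.1 f, Set.disjoint_left.mpr fun y hy hyU => ?_⟩
  rw [Scheme.IdealSheafData.support_comap] at hy
  exact (Set.disjoint_left.mp hI.2 : ∀ ⦃a : X⦄, a ∈ (I.support : Set X) → a ∉ (U : Set X)) hy hyU

/-- Finitely many admissible blowing ups are dominated by one. -/
theorem exists_dominating (U : X.Opens) {ι : Type*} [Fintype ι] (Xi : ι → Scheme.{u})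
    (b : ∀ i, Xi i ⟶ X) (I : ι → X.IdealSheafData) (hb : ∀ i, BlowUp.IsBlowUp (b i) (I i))
    (ha : ∀ i, BlowUp.IsAdmissibleFor U (I i)) :
    ∃ (J : X.IdealSheafData) (X' : Scheme.{u}) (c : X' ⟶ X),
      BlowUp.IsBlowUp c J ∧ BlowUp.IsAdmissibleFor U J ∧
        ∀ i, ∃ (g : X' ⟶ Xi i) (K : (Xi i).IdealSheafData), g ≫ b i = c ∧ BlowUp.IsBlowUp g K ∧
          BlowUp.IsAdmissibleFor ((b i) ⁻¹ᵁ U) K := by
  classical
  let J : X.IdealSheafData := ∏ i, I i
  have hJ : BlowUp.IsAdmissibleFor U J :=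
    Finset.prod_induction I (BlowUp.IsAdmissibleFor U) (fun _ _ => isAdmissible_mul)
      isAdmissible_top fun i _ => ha i
  obtain ⟨X', c, hc⟩ := BlowUpLib.exists_blowUp (C := J)
  refine ⟨J, X', c, hc, hJ, fun i => ?_⟩
  have hleft : ∀ {T : Scheme.{u}} (t : T ⟶ X), BlowUp.IsEffCartierIdeal (J.comap t) →
      BlowUp.IsEffCartierIdeal ((I i).comap t) := by
    intro T t ht
    rw [show J = I i * ∏ j ∈ Finset.univ.erase i, I j from
      (Finset.mul_prod_erase Finset.univ I (Finset.mem_univ i)).symm, FComplLib.comap_mul] at ht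
    exact isEffCartier_left_of_mul ht
  obtain ⟨g, hg, -⟩ := (hb i).2 X' c (hleft c hc.1)
  refine ⟨g, J.comap (b i), hg, ⟨?_, fun T t ht => ?_⟩, isAdmissible_comap (b i) hJ⟩
  · rw [← Scheme.IdealSheafData.comap_comp, hg]; exact hc.1
  · rw [← Scheme.IdealSheafData.comap_comp] at ht
    obtain ⟨h, hh, hu⟩ := hc.2 T (t ≫ b i) ht
    refine ⟨h, BlowUpLib.isBlowUp_hom_ext (hb i) ?_ (hleft _ ht), fun h' hh' => hu h' ?_⟩
    · rw [Category.assoc, hg]; exact hh
    · dsimp only at *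
      rw [← hg, ← Category.assoc, hh']

/-- An admissible centre on a quasi-compact open extends. -/
theorem exists_extension [CompactSpace X] [QuasiSeparatedSpace X] (U V : X.Opens)
    (hU : IsCompact (U : Set X)) (hV : IsCompact (V : Set X)) (I : (V : Scheme.{u}).IdealSheafData)
    (hI : BlowUp.IsAdmissibleFor (V.ι ⁻¹ᵁ U) I) :
    ∃ J : X.IdealSheafData, BlowUp.IsAdmissibleFor U J ∧ J.comap V.ι = I ∧
      ∀ (X' : Scheme.{u}) (c : X' ⟶ X), BlowUp.IsBlowUp c J → BlowUp.IsBlowUp (c ∣_ V) I := by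
  haveI : CompactSpace (V : Scheme.{u}) := isCompact_iff_compactSpace.mp hV
  haveI : QuasiCompact V.ι := quasiCompact_of_compactSpace V.ι
  obtain ⟨I₀, hI₀⟩ : ∃ I₀, I₀ = I.map V.ι := ⟨_, rfl⟩
  have hI₀V : I₀.comap V.ι = I := hI₀ ▸ MorLib.IdealFG.comap_map_self _ _
  have hdisj : Disjoint (I₀.support : Set X) U := by
    rw [hI₀, Scheme.IdealSheafData.support_map]
    refine Disjoint.closure_left ?_ U.2
    rw [Set.disjoint_left]
    rintro _ ⟨z, hz, rfl⟩ hzU
    exact Set.disjoint_left.mp hI.2 hz hzU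
  obtain ⟨W, hW⟩ : ∃ W : X.Opens, W = U ⊔ V := ⟨_, rfl⟩
  have hWfg : MorLib.IdealFG.FGOn I₀ W := by
    intro O hO
    refine MorLib.IdealFG.fg_of_cover I₀ O fun x hx => ?_
    rcases Opens.mem_sup.mp (hW ▸ hO hx : x ∈ U ⊔ V) with hxU | hxV
    · obtain ⟨P, hP, hxP, hPU⟩ := exists_isAffineOpen_mem_and_subset (U := U) hxU
      refine ⟨⟨P, hP⟩, hxP, ?_⟩
      rw [ideal_eq_top_of_disjoint I₀ ⟨P, hP⟩ fun z hz hzI => Set.disjoint_left.mp hdisj hzI (hPU hz)]
      exact ⟨{1}, by simp⟩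
    · obtain ⟨P, hP, hxP, hPV⟩ := exists_isAffineOpen_mem_and_subset (U := V) hxV
      exact ⟨⟨P, hP⟩, hxP, Graft.fgOn_of_comap (hI₀V.symm ▸ hI.1) _ hPV⟩
  have hK : MorLib.IdealFG.IsFG (I₀.comap W.ι) := by
    intro O
    rw [Scheme.IdealSheafData.ideal_comap_of_isOpenImmersion]
    have h2 := (hWfg ⟨W.ι ''ᵁ O.1, O.2.image_of_isOpenImmersion _⟩
      (Scheme.Opens.ι_image_le _ _)).map (W.ι.appIso O.1).hom.hom
    convert! h2 using 1
    exact Ideal.comap_symm (W.ι.appIso O.1).commRingCatIsoToRingEquiv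
  obtain ⟨J, -, hJfg, hJW⟩ := Graft.exists_fg_extend (⊤ : X.IdealSheafData) W
    (by rw [hW, Opens.coe_sup]; exact hU.union hV) _ hK (by rw [Scheme.IdealSheafData.comap_top]; exact le_top)
  have hJV : J.comap V.ι = I := by
    rw [← hI₀V, ← X.homOfLE_ι (hW.symm ▸ le_sup_right : V ≤ W), Scheme.IdealSheafData.comap_comp,
      Scheme.IdealSheafData.comap_comp, hJW]
  refine ⟨J, ⟨hJfg, Set.disjoint_left.mpr fun x hxJ hxU => ?_⟩, hJV, fun X' c hc => ?_⟩
  · have h1 : (⟨x, hW.symm ▸ Opens.mem_sup.mpr (.inl hxU)⟩ : W) ∈ ((J.comap W.ι).support : Set W) := by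
      rw [Scheme.IdealSheafData.support_comap]
      exact hxJ
    rw [hJW, Scheme.IdealSheafData.support_comap] at h1
    exact Set.disjoint_left.mp hdisj h1 hxU
  · rw [← hJV]
    exact BlowUpLib.isBlowUp_of_isPullback (isPullback_morphismRestrict c V) hc

end Groth.Agent.BlowUpX
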