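import Groth.Agent.MeroX.BlowSpec

/-!
An extension in which an ideal becomes invertible without growing is the blowing up in that ideal.
-/

universe u

open CategoryTheory AlgebraicGeometry TopologicalSpace Opposite

namespace Groth.Agent.BlowUpX

open Groth.Agent.MeroX

variable {A : Type u} [CommRing A] {I : Ideal A} {Y : Scheme.{u}} {g : Y ⟶ Spec (CommRingCat.of A)}

/-- `σ` followed by restriction. -/
noncomputable def τ (g : Y ⟶ Spec (CommRingCat.of A)) (W : Y.Opens) : A →+* Γ(Y, W) :=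
  ((Y.presheaf.map (homOfLE (le_top : W ≤ ⊤)).op).hom).comp (σ g)

theorem τ_res {W W' : Y.Opens} (h : W' ≤ W) (a : A) :
    Y.presheaf.map (homOfLE h).op (τ g W a) = τ g W' a := by
  show Y.presheaf.map (homOfLE h).op (Y.presheaf.map (homOfLE (le_top : W ≤ ⊤)).op (σ g a)) = _
  rw [← ConcreteCategory.comp_apply, ← Functor.map_comp]
  rfl

theorem chart_data (hg : BlowUp.IsEffCartierIdeal ((Curv2.idealSheaf A I).comap g)) (y : Y) :
    ∃ V : Y.affineOpens, y ∈ V.1 ∧ ∃ h ∈ nonZeroDivisors Γ(Y, V.1), I.map (τ g V.1) = Ideal.span {h} := by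
  obtain ⟨V, hy, h, hh, hV⟩ := hg y
  exact ⟨V, hy, h, hh, (ideal_comap_idealSheaf I g V).symm.trans hV⟩

theorem cancel_ideal (hg : BlowUp.IsEffCartierIdeal ((Curv2.idealSheaf A I).comap g)) (W : Y.Opens)
    (p q : Γ(Y, W)) (h : ∀ x ∈ I, τ g W x * p = τ g W x * q) : p = q := by
  refine TopCat.Presheaf.section_ext Y.sheaf W p q fun y hy => ?_
  obtain ⟨V, hyV, e, he, hV⟩ := chart_data hg y
  have h1 := germ_mem_nonZeroDivisors V.2 he y hyV
  have key : ∀ r ∈ I.map (τ g V.1), Y.presheaf.germ V.1 y hyV r * Y.presheaf.germ W y hy p =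
      Y.presheaf.germ V.1 y hyV r * Y.presheaf.germ W y hy q := by
    intro r hr
    induction hr using Submodule.span_induction with
    | mem r hr =>
      obtain ⟨x, hx, rfl⟩ := hr
      have := congrArg (Y.presheaf.germ W y hy) (h x hx)
      rw [map_mul, map_mul] at this
      have e1 : Y.presheaf.germ V.1 y hyV (τ g V.1 x) = Y.presheaf.germ W y hy (τ g W x) :=
        (Y.presheaf.germ_res_apply (homOfLE le_top) y hyV (σ g x)).trans
          (Y.presheaf.germ_res_apply (homOfLE le_top) y hy (σ g x)).symm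
      rw [e1]; exact this
    | zero => simp
    | add a b _ _ ha hb => rw [map_add, add_mul, add_mul, ha, hb]
    | smul c a _ ha => rw [smul_eq_mul, map_mul, mul_assoc, mul_assoc, ha]
  have h2 := key e (hV ▸ Ideal.mem_span_singleton_self e)
  change Y.presheaf.germ W y hy p = Y.presheaf.germ W y hy q
  exact (mul_cancel_left_mem_nonZeroDivisors h1).mp h2

theorem exists_quot_ideal (hg : BlowUp.IsEffCartierIdeal ((Curv2.idealSheaf A I).comap g)) (m : I → I)
    (hm : ∀ x x' : I, (x' : A) * m x = x * m x') :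
    ∃ p : Γ(Y, ⊤), ∀ x : I, σ g (m x) = σ g x * p := by
  have loc : ∀ y, ∃ V : Y.affineOpens, y ∈ V.1 ∧ ∃ p : Γ(Y, V.1), ∀ x : I, τ g V.1 (m x) = τ g V.1 x * p := by
    intro y
    obtain ⟨V, hy, h, hh, hV⟩ := chart_data hg y
    have hc : ∀ x : I, ∃ c, τ g V.1 x = h * c := fun x =>
      Ideal.mem_span_singleton.mp (hV ▸ Ideal.mem_map_of_mem (τ g V.1) x.2)
    choose c hc using hc
    have hd : ∀ x x' : I, c x' * c (m x) = c x * c (m x') := by
      intro x x'
      have := congrArg (τ g V.1) (hm x x')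
      rw [map_mul, map_mul, hc, hc, hc, hc] at this
      have h2 : h * (h * (c x' * c (m x))) = h * (h * (c x * c (m x'))) := by linear_combination this
      exact (mul_cancel_left_mem_nonZeroDivisors hh).mp ((mul_cancel_left_mem_nonZeroDivisors hh).mp h2)
    let T : Ideal Γ(Y, V.1) :=
      { carrier := {r | ∃ p, ∀ x : I, r * c (m x) = c x * p}
        add_mem' := by
          rintro a b ⟨p, hp⟩ ⟨q, hq⟩
          exact ⟨p + q, fun x => by rw [add_mul, hp, hq, mul_add]⟩
        zero_mem' := ⟨0, fun x => by rw [zero_mul, mul_zero]⟩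
        smul_mem' := by
          rintro a b ⟨p, hp⟩
          exact ⟨a * p, fun x => by rw [smul_eq_mul, mul_assoc, hp]; ring⟩ }
    have hle : I.map (τ g V.1) ≤ Ideal.span {h} * T := by
      rw [Ideal.map_le_iff_le_comap]
      intro a ha
      rw [Ideal.mem_comap, hc ⟨a, ha⟩]
      exact Ideal.mul_mem_mul (Ideal.mem_span_singleton_self h) ⟨c (m ⟨a, ha⟩), fun x => hd x ⟨a, ha⟩⟩
    obtain ⟨k, hk, hhk⟩ := Ideal.mem_span_singleton_mul.mp (hle (hV ▸ Ideal.mem_span_singleton_self h))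
    obtain ⟨p, hp⟩ : (1 : Γ(Y, V.1)) ∈ T := by
      rwa [(mul_cancel_left_mem_nonZeroDivisors hh).mp ((mul_one h).trans hhk.symm)]
    exact ⟨V, hy, p, fun x => by rw [hc, hc, ← one_mul (c (m x)), hp]; ring⟩
  choose V hy q hq using loc
  have hcompat : TopCat.Presheaf.IsCompatible Y.sheaf.1 (fun y => (V y).1) q := by
    intro y z
    refine cancel_ideal hg _ _ _ fun x hx => ?_
    have key : ∀ (w : Y) (hle : (V y).1 ⊓ (V z).1 ≤ (V w).1),
        τ g ((V y).1 ⊓ (V z).1) x * Y.presheaf.map (homOfLE hle).op (q w) =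
          τ g ((V y).1 ⊓ (V z).1) (m ⟨x, hx⟩) := by
      intro w hle
      have := congrArg (Y.presheaf.map (homOfLE hle).op) (hq w ⟨x, hx⟩)
      rw [map_mul, τ_res, τ_res] at this
      exact this.symm
    exact (key y inf_le_left).trans (key z inf_le_right).symm
  obtain ⟨s, hs, -⟩ := TopCat.Sheaf.existsUnique_gluing' Y.sheaf (fun y => (V y).1) ⊤
    (fun y => homOfLE le_top) (fun y _ => Opens.mem_iSup.mpr ⟨y, hy y⟩) q hcompat
  refine ⟨s, fun x => TopCat.Sheaf.eq_of_locally_eq' Y.sheaf (fun y => (V y).1) ⊤ (fun y => homOfLE le_top)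
    (fun y _ => Opens.mem_iSup.mpr ⟨y, hy y⟩) _ _ fun y => ?_⟩
  refine (hq y x).trans ?_
  erw [map_mul]
  exact congrArg _ (hs y).symm

/-- An extension `A → B` with `I B ⊆ I` and `I B` invertible is the blowing up of `I`. -/
theorem isBlowUp_Spec_cartier (A B : Type u) [CommRing A] [CommRing B] [Algebra A B]
    (hinj : Function.Injective (algebraMap A B)) (I : Ideal A)
    (hIB : ∀ b ∈ Ideal.map (algebraMap A B) I, ∃ a ∈ I, algebraMap A B a = b)
    (hcart : BlowUp.IsEffCartierIdeal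
      ((Curv2.idealSheaf A I).comap (Spec.map (CommRingCat.ofHom (algebraMap A B))))) :
    BlowUp.IsBlowUp (Spec.map (CommRingCat.ofHom (algebraMap A B))) (Curv2.idealSheaf A I) := by
  refine ⟨hcart, fun Y g hg => ?_⟩
  have hmul : ∀ (b : B) (x : I), ∃ z : I, algebraMap A B z = b * algebraMap A B x := fun b x => by
    obtain ⟨z, hz, e⟩ := hIB _ (Ideal.mul_mem_left _ b (Ideal.mem_map_of_mem (algebraMap A B) x.2))
    exact ⟨⟨z, hz⟩, e⟩
  choose m hm using hmul
  have hsym : ∀ (b : B) (x x' : I), (x' : A) * m b x = x * m b x' := fun b x x' =>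
    hinj (by rw [map_mul, map_mul, hm, hm]; ring)
  choose q hq using fun b => exists_quot_ideal hg (m b) (hsym b)
  have htop : ∀ r : Γ(Y, ⊤), Y.presheaf.map (homOfLE (le_top : (⊤ : Y.Opens) ≤ ⊤)).op r = r := fun r => by
    rw [show (homOfLE (le_top : (⊤ : Y.Opens) ≤ ⊤)).op = 𝟙 _ from rfl, Y.presheaf.map_id]; rfl
  have hc : ∀ p p' : Γ(Y, ⊤), (∀ x ∈ I, σ g x * p = σ g x * p') → p = p' := fun p p' h =>
    cancel_ideal hg ⊤ p p' fun x hx => by
      show Y.presheaf.map _ (σ g x) * p = Y.presheaf.map _ (σ g x) * p'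
      rw [htop]; exact h x hx
  have hchar : ∀ (b : B) (x : I) (z : A), algebraMap A B z = b * algebraMap A B x →
      σ g x * q b = σ g z := fun b x z hz => by rw [← hq b, hinj ((hm b x).trans hz.symm)]
  let ψ : B →+* Γ(Y, ⊤) :=
    { toFun := q
      map_one' := hc _ _ fun x hx => by rw [hchar 1 ⟨x, hx⟩ x (one_mul _).symm, mul_one]
      map_mul' := fun b b' => hc _ _ fun x hx => by
        rw [hchar (b * b') ⟨x, hx⟩ (m b (m b' ⟨x, hx⟩)) (by rw [hm, hm, mul_assoc]), hq b, hq b']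
        ring
      map_zero' := hc _ _ fun x hx => by
        rw [hchar 0 ⟨x, hx⟩ 0 (by rw [map_zero, zero_mul]), map_zero, mul_zero]
      map_add' := fun b b' => hc _ _ fun x hx => by
        rw [hchar (b + b') ⟨x, hx⟩ (m b ⟨x, hx⟩ + m b' ⟨x, hx⟩) (by rw [map_add, hm, hm]; ring),
          map_add, hq b, hq b', mul_add] }
  have hψ : ψ.comp (algebraMap A B) = σ g := RingHom.ext fun a => hc _ _ fun x hx => by
    change σ g x * q (algebraMap A B a) = _
    rw [hchar (algebraMap A B a) ⟨x, hx⟩ (a * x) (map_mul _ _ _), map_mul, mul_comm]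
  refine ⟨Y.toSpecΓ ≫ Spec.map (CommRingCat.ofHom ψ), ?_, fun h hh => ?_⟩
  · change (Y.toSpecΓ ≫ Spec.map (CommRingCat.ofHom ψ)) ≫ Spec.map (CommRingCat.ofHom (algebraMap A B)) = g
    rw [Category.assoc, ← Spec.map_comp, ← CommRingCat.ofHom_comp, hψ]
    exact (eq_toSpecΓ_comp g).symm
  · rw [eq_toSpecΓ_comp h]
    congr 2
    ext b
    let χ := ((Scheme.ΓSpecIso (CommRingCat.of B)).inv ≫ h.appTop).hom
    have hχ : ∀ a, χ (algebraMap A B a) = σ g a := fun a => by
      have hh' : h ≫ Spec.map (CommRingCat.ofHom (algebraMap A B)) = g := hh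
      simp only [σ, χ, ← hh', Scheme.Hom.comp_appTop]
      rw [← Category.assoc, ← Scheme.ΓSpecIso_inv_naturality]
      rfl
    refine hc _ _ fun x hx => ?_
    change σ g x * χ b = σ g x * q b
    rw [hchar b ⟨x, hx⟩ _ (hm b ⟨x, hx⟩), ← hχ, ← hχ (m b ⟨x, hx⟩), hm, map_mul, mul_comm]

end Groth.Agent.BlowUpX
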