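import Groth.Agent.BlowUpLib.Glue
import Groth.Agent.BlowUpX.Basic

/-!
# Blowing up a disjoint union of centres
-/

universe u

open CategoryTheory CategoryTheory.Limits AlgebraicGeometry

namespace Groth.Agent.BlowUpX

variable {X B₁ B₂ : Scheme.{u}}

/-- The open complement of a centre. -/
def avoid (I : X.IdealSheafData) : X.Opens := I.support.compl

theorem comap_inf_of_avoid {V : Scheme.{u}} (I J : X.IdealSheafData) (j : V ⟶ X) [IsOpenImmersion j]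
    (h : ∀ v, j v ∉ (J.support : Set X)) : (I ⊓ J).comap j = I.comap j := by
  refine Scheme.IdealSheafData.ext (funext fun W => ?_)
  rw [Scheme.IdealSheafData.ideal_comap_of_isOpenImmersion, Scheme.IdealSheafData.ideal_comap_of_isOpenImmersion,
    Scheme.IdealSheafData.ideal_inf, Pi.inf_apply, ideal_eq_top_of_disjoint J _ (by rintro _ ⟨v, -, rfl⟩; exact h v),
    inf_top_eq]

theorem exists_piece (I₁ I₂ : X.IdealSheafData) (σ₁ : B₁ ⟶ X) (hσ₁ : BlowUp.IsBlowUp σ₁ I₁)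
    (σ₂ : B₂ ⟶ X) (hσ₂ : BlowUp.IsBlowUp σ₂ I₂) :
    ∃ (P : Scheme.{u}) (b' : P ⟶ (avoid I₂).toScheme) (p : P ⟶ pullback σ₁ σ₂),
      IsPullback b' p (avoid I₂).ι (pullback.fst σ₁ σ₂ ≫ σ₁) ∧
      BlowUp.IsBlowUp b' ((I₁ ⊓ I₂).comap (avoid I₂).ι) := by
  set V : X.Opens := avoid I₂
  haveI : IsIso (σ₂ ∣_ V) := isIso_restrict hσ₂
  let b' := σ₁ ∣_ V
  let ι₁ := (σ₁ ⁻¹ᵁ V).ι
  let s : V.toScheme ⟶ B₂ := inv (σ₂ ∣_ V) ≫ (σ₂ ⁻¹ᵁ V).ι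
  have hs : s ≫ σ₂ = V.ι := by
    rw [Category.assoc, ← morphismRestrict_ι, IsIso.inv_hom_id_assoc]
  have H : IsPullback b' ι₁ V.ι σ₁ := (isPullback_morphismRestrict σ₁ V).flip.flip
  let p := pullback.lift ι₁ (b' ≫ s) (by rw [Category.assoc, hs, H.w])
  have R : IsPullback s (𝟙 _) σ₂ V.ι :=
    (isPullback_morphismRestrict σ₂ V).flip.of_iso (asIso (σ₂ ∣_ V)) (Iso.refl _) (Iso.refl _) (Iso.refl _)
      (by simp [s]) (by simp) (by simp) (by simp)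
  have L : IsPullback b' (𝟙 _) (𝟙 V.toScheme) b' := IsPullback.of_vert_isIso ⟨by simp⟩
  have O := L.paste_horiz R
  have hp1 : p ≫ pullback.fst σ₁ σ₂ = ι₁ := pullback.lift_fst _ _ _
  have hp2 : p ≫ pullback.snd σ₁ σ₂ = b' ≫ s := pullback.lift_snd _ _ _
  have T : IsPullback p (𝟙 _) (pullback.fst σ₁ σ₂) ι₁ := by
    refine IsPullback.of_right (t := (IsPullback.of_hasPullback σ₁ σ₂).flip) ?_ (by rw [hp1, Category.id_comp])
    rw [hp2, ← H.w]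
    exact O
  refine ⟨_, b', p, ?_, ?_⟩
  · have := (T.paste_vert H.flip).flip
    simpa using this
  · rw [comap_inf_of_avoid I₁ I₂ V.ι fun v => v.2]
    exact BlowUpLib.isBlowUp_of_isPullback (p := ι₁) H hσ₁

theorem isBlowUp_pullback (I₁ I₂ : X.IdealSheafData) (hdisj : I₁ ⊔ I₂ = ⊤) (σ₁ : B₁ ⟶ X)
    (hσ₁ : BlowUp.IsBlowUp σ₁ I₁) (σ₂ : B₂ ⟶ X) (hσ₂ : BlowUp.IsBlowUp σ₂ I₂) :
    BlowUp.IsBlowUp (pullback.fst σ₁ σ₂ ≫ σ₁) (I₁ ⊓ I₂) := by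
  obtain ⟨P₁, b₁, p₁, H₁, h₁⟩ := exists_piece I₁ I₂ σ₁ hσ₁ σ₂ hσ₂
  obtain ⟨P₂, b₂, p₂, H₂, h₂⟩ := exists_piece I₂ I₁ σ₂ hσ₂ σ₁ hσ₁
  let e := pullbackSymmetry σ₂ σ₁
  have H₂' : IsPullback b₂ (p₂ ≫ e.hom) (avoid I₁).ι (pullback.fst σ₁ σ₂ ≫ σ₁) :=
    H₂.of_iso (Iso.refl _) (Iso.refl _) e (Iso.refl _) (by simp) (by simp) (by simp) (by simp [e, pullback.condition])
  rw [inf_comm] at h₂
  refine @BlowUpLib.isBlowUp_of_local _ _ _ _ Bool (fun i => match i with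
      | true => (avoid I₂).toScheme | false => (avoid I₁).toScheme)
    (fun i => match i with | true => (avoid I₂).ι | false => (avoid I₁).ι)
    (fun i => by cases i <;> exact inferInstance)
    (fun x => ?_) (fun i => match i with | true => P₁ | false => P₂)
    (fun i => match i with | true => b₁ | false => b₂)
    (fun i => match i with | true => p₁ | false => p₂ ≫ e.hom) ?_ ?_
  · by_cases hx : x ∈ I₂.support
    · refine ⟨false, ⟨x, fun hx' => ?_⟩, rfl⟩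
      have : x ∈ ((I₁ ⊔ I₂).support : Set X) := by rw [Scheme.IdealSheafData.support_sup]; exact ⟨hx', hx⟩
      rw [hdisj] at this
      simp at this
    · exact ⟨true, ⟨x, hx⟩, rfl⟩
  · intro i; cases i
    · exact H₂'
    · exact H₁
  · intro i; cases i
    · exact h₂
    · exact h₁

theorem exists_closedImmersion {B : Scheme.{u}} (I₁ I₂ : X.IdealSheafData) (hdisj : I₁ ⊔ I₂ = ⊤)
    (σ : B ⟶ X) (hσ : BlowUp.IsBlowUp σ (I₁ ⊓ I₂)) (σ₁ : B₁ ⟶ X) (hσ₁ : BlowUp.IsBlowUp σ₁ I₁)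
    (σ₂ : B₂ ⟶ X) (hσ₂ : BlowUp.IsBlowUp σ₂ I₂) :
    ∃ ι : B ⟶ pullback σ₁ σ₂, IsClosedImmersion ι ∧ ι ≫ pullback.fst σ₁ σ₂ ≫ σ₁ = σ := by
  obtain ⟨e, he⟩ := BlowUpLib.exists_iso hσ (isBlowUp_pullback I₁ I₂ hdisj σ₁ hσ₁ σ₂ hσ₂)
  exact ⟨e.hom, inferInstance, he⟩

end Groth.Agent.BlowUpX
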