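import Groth.Agent.BlowUpLib.Glue
import Groth.Agent.BlowUpX.Basic
import Groth.Agent.MeroX.BlowSpec
import Groth.Agent.FComplLib.IdealComap

/-!
# A finite modification is a blowing up
-/

universe u

open CategoryTheory CategoryTheory.Limits AlgebraicGeometry TopologicalSpace

namespace Groth.Agent.BlowUpX

theorem pow_mul_mem_range {A B : Type u} [CommRing A] [CommRing B] (φ : A →+* B) (hfin : φ.Finite) (l : A)
    (h : ∀ b : B, ∃ n, φ l ^ n * b ∈ φ.range) : ∃ n, ∀ m, n ≤ m → ∀ b : B, φ l ^ m * b ∈ φ.range := by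
  classical
  letI := φ.toAlgebra
  haveI : Module.Finite A B := hfin
  obtain ⟨s, hs⟩ := Module.finite_def.mp (inferInstance : Module.Finite A B)
  choose n hn using h
  refine ⟨s.sup n, fun m hm b => ?_⟩
  have hb : b ∈ Submodule.span A (s : Set B) := hs ▸ Submodule.mem_top
  induction hb using Submodule.span_induction with
  | mem x hx =>
    obtain ⟨k, rfl⟩ := Nat.exists_eq_add_of_le ((Finset.le_sup (f := n) hx).trans hm)
    obtain ⟨a, ha⟩ := hn x
    exact ⟨l ^ k * a, by rw [map_mul, map_pow, ha]; ring⟩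
  | zero => exact ⟨0, by rw [map_zero, mul_zero]⟩
  | add x y _ _ hx hy =>
    obtain ⟨a, ha⟩ := hx; obtain ⟨c, hc⟩ := hy
    exact ⟨a + c, by rw [map_add, ha, hc, mul_add]⟩
  | smul r x _ hx =>
    obtain ⟨a, ha⟩ := hx
    exact ⟨r * a, by rw [map_mul, ha, Algebra.smul_def, RingHom.algebraMap_toAlgebra]; ring⟩

variable {X Y : Scheme.{u}}

theorem isIso_app_of_le (f : X ⟶ Y) (C : Y.Opens) [IsIso (f ∣_ C)] (V : Y.Opens) (hV : V ≤ C) :
    IsIso (f.app V) := by
  have h1 : IsIso ((f ∣_ C).app (C.ι ⁻¹ᵁ V)) := inferInstance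
  rw [morphismRestrict_app] at h1
  have h2 : IsIso (f.app (C.ι ''ᵁ C.ι ⁻¹ᵁ V)) := by
    have hg : ∀ {a b : (TopologicalSpace.Opens X)ᵒᵖ} (e : a ⟶ b) [IsIso e], IsIso (X.presheaf.map e) :=
      fun e _ => Functor.map_isIso X.presheaf e
    exact @IsIso.of_isIso_comp_right _ _ _ _ _ _ _ (hg _) h1
  rwa [Scheme.Hom.image_preimage_eq_opensRange_inf, Scheme.Opens.opensRange_ι, inf_eq_right.mpr hV] at h2

/-- The local structure of a finite modification along a Cartier divisor. -/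
theorem finite_modification_local [IsReduced X] (f : X ⟶ Y) [IsFinite f] (L : Y.IdealSheafData)
    [IsIso (f ∣_ L.support.compl)] (hdense : Dense (f.base ⁻¹' ((L.support : Set Y)ᶜ))) (U : Y.affineOpens)
    (l : Γ(Y, U.1)) (hl : l ∈ nonZeroDivisors Γ(Y, U.1)) (hL : L.ideal U = Ideal.span {l}) :
    Function.Injective (f.app U.1).hom ∧ (f.app U.1).hom l ∈ nonZeroDivisors Γ(X, f ⁻¹ᵁ U.1) ∧
      ∃ n, ∀ m, n ≤ m → ∀ b, (f.app U.1).hom l ^ m * b ∈ (f.app U.1).hom.range := by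
  set φ := (f.app U.1).hom with hφ
  have hV : IsAffineOpen (f ⁻¹ᵁ U.1) := U.2.preimage f
  have hDle : Y.basicOpen l ≤ U.1 := Y.basicOpen_le l
  have hDC : Y.basicOpen l ≤ L.support.compl := fun y hy hy' =>
    (Scheme.mem_zeroLocus_iff _ _ _).mp
      ((Scheme.IdealSheafData.mem_support_iff_of_mem (U := U) (hDle hy)).mp hy') l
      (hL ▸ Ideal.mem_span_singleton_self l) hy
  haveI hiso : IsIso (f.app (Y.basicOpen l)) := isIso_app_of_le f _ _ hDC
  have hpre : f ⁻¹ᵁ Y.basicOpen l = X.basicOpen (φ l) := f.preimage_basicOpen l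
  have hbij : Function.Bijective (f.app (Y.basicOpen l)).hom := ConcreteCategory.bijective_of_isIso _
  let ρA := (Y.presheaf.map (homOfLE hDle).op).hom
  let ρB := (X.presheaf.map (homOfLE (f.preimage_mono hDle)).op).hom
  have hnat : ∀ a, ρB (φ a) = (f.app (Y.basicOpen l)).hom (ρA a) := fun a =>
    (congrArg (fun ψ => ψ.hom a) (f.naturality (homOfLE hDle).op)).symm
  haveI hLA := U.2.isLocalization_basicOpen l
  haveI hLB : @IsLocalization.Away _ _ (φ l) Γ(X, f ⁻¹ᵁ Y.basicOpen l) _ ρB.toAlgebra :=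
    hV.isLocalization_of_eq_basicOpen (φ l) (homOfLE (f.preimage_mono hDle)) hpre
  have hA0 : ∀ a, ρA a = 0 → a = 0 := by
    intro a ha
    have ha' : algebraMap Γ(Y, U.1) Γ(Y, Y.basicOpen l) a = 0 := ha
    obtain ⟨⟨_, n, rfl⟩, hn⟩ := (IsLocalization.map_eq_zero_iff (Submonoid.powers l) _ a).mp ha'
    exact (pow_mem hl n).2 a (by rw [mul_comm]; exact hn)
  refine ⟨(injective_iff_map_eq_zero _).mpr fun a ha => hA0 a (hbij.1 ?_), ?_, pow_mul_mem_range φ ?_ l ?_⟩
  · rw [← hnat, ha, map_zero, map_zero]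
  · refine mem_nonZeroDivisors_iff_right.mpr fun b hb => (basicOpen_eq_bot_iff b).mp ?_
    by_contra hne
    obtain ⟨x, hxb⟩ : ∃ x, x ∈ X.basicOpen b := by
      by_contra! hno
      exact hne (TopologicalSpace.Opens.ext (Set.eq_empty_iff_forall_notMem.mpr hno))
    obtain ⟨z, hzb, hz⟩ := hdense.inter_open_nonempty _ (X.basicOpen b).isOpen ⟨x, hxb⟩
    have hzU : f z ∈ U.1 := X.basicOpen_le b hzb
    have hzD : z ∈ X.basicOpen (φ l) := by
      rw [← hpre]
      by_contra hnot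
      refine hz ((Scheme.IdealSheafData.mem_support_iff_of_mem (U := U) hzU).mpr ?_)
      rw [hL, Scheme.zeroLocus_span, Scheme.mem_zeroLocus_iff]
      rintro _ rfl
      exact hnot
    have hz2 : z ∈ X.basicOpen (b * φ l) := by rw [Scheme.basicOpen_mul]; exact ⟨hzb, hzD⟩
    rw [hb, Scheme.basicOpen_zero] at hz2
    exact hz2
  · exact IsFinite.finite_app (f := f) U.1 U.2
  · intro b
    obtain ⟨q, hq⟩ := hbij.2 (ρB b)
    obtain ⟨n, a, ha⟩ := IsLocalization.Away.surj l q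
    letI := ρB.toAlgebra
    have h1 : algebraMap Γ(X, f ⁻¹ᵁ U.1) Γ(X, f ⁻¹ᵁ Y.basicOpen l) (φ l ^ n * b) =
        algebraMap Γ(X, f ⁻¹ᵁ U.1) Γ(X, f ⁻¹ᵁ Y.basicOpen l) (φ a) := by
      show ρB (φ l ^ n * b) = ρB (φ a)
      have ha' : q * ρA l ^ n = ρA a := ha
      rw [map_mul, map_pow, hnat, hnat, ← ha', map_mul, map_pow, hq, mul_comm]
    obtain ⟨⟨_, k, rfl⟩, hk⟩ := (IsLocalization.eq_iff_exists (Submonoid.powers (φ l)) _).mp h1
    refine ⟨k + n, l ^ k * a, ?_⟩
    rw [map_mul, map_pow, ← hk]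
    simp only
    ring

/-- A finite modification is a blowing up. -/
theorem isBlowUp_of_finite_modification [CompactSpace Y] [IsReduced X] (f : X ⟶ Y) [IsFinite f]
    (L : Y.IdealSheafData) (hL : BlowUp.IsEffCartierIdeal L) [IsIso (f ∣_ L.support.compl)]
    (hdense : Dense (f.base ⁻¹' ((L.support : Set Y)ᶜ))) :
    ∃ I : Y.IdealSheafData, I.support = L.support ∧ BlowUp.IsBlowUp f I := by
  classical
  choose U hU l hl0 hl using hL
  choose hinj hnzd n hn using fun y => finite_modification_local f L hdense (U y) (l y) (hl0 y) (hl y)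
  obtain ⟨t, ht⟩ := isCompact_univ.elim_finite_subcover (fun y => ((U y).1 : Set Y)) (fun y => (U y).1.isOpen)
    (fun y _ => Set.mem_iUnion.mpr ⟨y, hU y⟩)
  let N := t.sup n + 1
  obtain ⟨I, hIdef⟩ : ∃ I, I = (L.comap f ^ N).map f := ⟨_, rfl⟩
  have hcov : ∀ x : Y, ∃ y : {y // y ∈ t}, x ∈ (U y.1).1 := by
    intro x
    obtain ⟨y, hy, hxy⟩ := Set.mem_iUnion₂.mp (ht (Set.mem_univ x))
    exact ⟨⟨y, hy⟩, hxy⟩
  have hI : ∀ y, I.ideal (U y) = (Ideal.span {(f.app (U y).1).hom (l y) ^ N}).comap (f.app (U y).1).hom := by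
    intro y
    rw [hIdef, Scheme.IdealSheafData.ideal_map_of_isAffineHom]
    congr 1
    rw [Scheme.IdealSheafData.ideal_pow, Pi.pow_apply,
      ModPairLib.ideal_comap L f (U y) ⟨_, (U y).2.preimage f⟩ le_rfl, hl y, Ideal.map_span, Set.image_singleton,
      Ideal.span_singleton_pow, ← Scheme.Hom.app_eq_appLE]
  have hle : ∀ y : {y // y ∈ t}, ∀ m, N - 1 ≤ m → n y.1 ≤ m := fun y m hm =>
    (Finset.le_sup (f := n) y.2).trans (by simpa [N] using hm)
  refine ⟨I, ?_, ?_⟩
  · refine SetLike.ext fun x => ?_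
    obtain ⟨⟨y, hy⟩, hxy⟩ := hcov x
    show x ∈ (I.support : Set Y) ↔ x ∈ (L.support : Set Y)
    constructor
    · intro h
      refine mem_support_of_notMem_basicOpen' hxy (hl y) fun hxl => ?_
      have hmem : l y ^ N ∈ I.ideal (U y) := by
        rw [hI, Ideal.mem_comap, map_pow]
        exact Ideal.mem_span_singleton_self _
      refine (Scheme.mem_zeroLocus_iff _ _ _).mp
        ((Scheme.IdealSheafData.mem_support_iff_of_mem (U := U y) hxy).mp h) _ hmem ?_
      rwa [Y.basicOpen_pow _ (by simp [N] : 0 < N)]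
    · intro h
      refine (Scheme.IdealSheafData.mem_support_iff_of_mem (U := U y) hxy).mpr ?_
      rw [Scheme.mem_zeroLocus_iff]
      intro a ha hxa
      rw [SetLike.mem_coe, hI, Ideal.mem_comap, Ideal.mem_span_singleton'] at ha
      obtain ⟨b, hb⟩ := ha
      obtain ⟨a', ha'⟩ := hn y (N - 1) (hle ⟨y, hy⟩ _ le_rfl)
        ((f.app (U y).1).hom (l y) ^ N * b * b)
      have hsq : a * a = l y * a' := by
        refine hinj y ?_
        rw [map_mul, map_mul, ha', ← hb]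
        obtain ⟨M, hM⟩ : ∃ M, N = M + 1 := ⟨t.sup n, rfl⟩
        rw [hM, Nat.add_sub_cancel]
        ring
      have hx2 : x ∈ Y.basicOpen (l y * a') := by
        rw [← hsq, Scheme.basicOpen_mul]; exact ⟨hxa, hxa⟩
      rw [Scheme.basicOpen_mul] at hx2
      exact (Scheme.mem_zeroLocus_iff _ _ _).mp
        ((Scheme.IdealSheafData.mem_support_iff_of_mem (U := U y) hxy).mp h) (l y)
        (hl y ▸ Ideal.mem_span_singleton_self _) hx2.1
  · refine BlowUpLib.isBlowUp_of_local (fun y : {y // y ∈ t} => (U y.1).2.fromSpec) (fun x => ?_)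
      (fun y => Spec.map (f.app (U y.1).1)) (fun y => ((U y.1).2.preimage f).fromSpec) (fun y => ?_) (fun y => ?_)
    · obtain ⟨y, hxy⟩ := hcov x
      exact ⟨y, (U y.1).2.range_fromSpec.ge hxy⟩
    · refine IsOpenImmersion.isPullback _ _ _ _ ?_ ?_
      · rw [Scheme.Hom.app_eq_appLE]
        exact (IsAffineOpen.SpecMap_appLE_fromSpec f (U y.1).2 ((U y.1).2.preimage f) le_rfl).symm
      · rw [IsAffineOpen.opensRange_fromSpec, IsAffineOpen.opensRange_fromSpec]
    · rw [BlowUpLib.comap_fromSpec]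
      set φ := (f.app (U y.1).1).hom with hφ
      letI := φ.toAlgebra
      refine MeroX.isBlowUp_Spec Γ(Y, (U y.1).1) Γ(X, f ⁻¹ᵁ (U y.1).1) (hinj y.1) (I.ideal (U y.1)) ?_
        (φ (l y.1) ^ N) (pow_mem (hnzd y.1) N) ?_
      · intro b hb
        have hb' : b ∈ Ideal.span {φ (l y.1) ^ N} := Ideal.map_le_iff_le_comap.mpr (hI y.1).le hb
        obtain ⟨c, rfl⟩ := Ideal.mem_span_singleton'.mp hb'
        obtain ⟨a, ha⟩ := hn y.1 N (hle y N (Nat.sub_le N 1)) c
        refine ⟨a, ?_, by rw [RingHom.algebraMap_toAlgebra, ha, mul_comm]⟩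
        rw [SetLike.mem_coe, hI, Ideal.mem_comap, ha]
        exact Ideal.mul_mem_right _ _ (Ideal.mem_span_singleton_self _)
      · refine le_antisymm (Ideal.map_le_iff_le_comap.mpr (hI y.1).le) ?_
        rw [Ideal.span_singleton_le_iff_mem, ← map_pow]
        refine Ideal.mem_map_of_mem φ ?_
        rw [hI, Ideal.mem_comap, map_pow]
        exact Ideal.mem_span_singleton_self _
where
  mem_support_of_notMem_basicOpen' {I : Y.IdealSheafData} {W : Y.affineOpens} {x : Y}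
      (hxW : x ∈ W.1) {a : Γ(Y, W.1)} (hI : I.ideal W = Ideal.span {a}) (ha : x ∉ Y.basicOpen a) :
      x ∈ (I.support : Set Y) := by
    refine (Scheme.IdealSheafData.mem_support_iff_of_mem (U := W) hxW).mpr ?_
    rw [hI, Scheme.zeroLocus_span, Scheme.mem_zeroLocus_iff]
    rintro b rfl
    exact ha

end Groth.Agent.BlowUpX
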