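import Groth.Agent.BlowUpLib.Chart
import Groth.Agent.CAlgUI.Flat
import Mathlib.RingTheory.Flat.EquationalCriterion

/-!
Affine blow-up algebras of ideals with flat powers are flat.
-/

universe u

namespace Groth.Agent.BlowUpX

open IsLocalization

/-- A module in which every finite relation comes from a flat module is flat. -/
theorem flat_of_approx {R M : Type u} [CommRing R] [AddCommGroup M] [Module R M]
    (h : ∀ {l : ℕ} (f : Fin l → R) (x : Fin l → M), ∑ i, f i • x i = 0 →
      ∃ (N : ModuleCat.{u} R) (_ : Module.Flat R N) (g : N →ₗ[R] M) (y : Fin l → N),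
        (∀ i, g (y i) = x i) ∧ ∑ i, f i • y i = 0) : Module.Flat R M := by
  refine Module.Flat.of_forall_isTrivialRelation fun {l f x} hx => ?_
  obtain ⟨N, hN, g, y, hy, hsum⟩ := h f x hx
  obtain ⟨k, a, z, hz, ha⟩ := Module.Flat.isTrivialRelation_of_sum_smul_eq_zero hsum
  exact ⟨k, a, fun j => g (z j), fun i => by rw [← hy, hz, map_sum]; simp [map_smul], ha⟩

variable (R : Type u) [CommRing R] {A : Type u} [CommRing A] [Algebra R A] (I : Ideal A)

/-- The powers of `I` as modules over `R`. -/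
abbrev powMod (n : ℕ) : Submodule R A := (I ^ n).restrictScalars R

/-- The graded pieces. -/
abbrev powQuot (n : ℕ) : Type u :=
  powMod R I n ⧸ (powMod R I (n + 1)).comap (powMod R I n).subtype

variable {R I}

theorem flat_powQuot_zero (hR : Module.Flat R A) (h : ∀ n, 1 ≤ n → Module.Flat R (A ⧸ I ^ n)) (n : ℕ) :
    Module.Flat R (A ⧸ I ^ n) := by
  rcases Nat.eq_zero_or_pos n with rfl | hn
  · haveI : Subsingleton (A ⧸ I ^ 0) := Ideal.Quotient.subsingleton_iff.mpr (by simp)
    exact Module.Flat.of_free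
  · exact h n hn

theorem flat_powMod (hR : Module.Flat R A) (h : ∀ n, 1 ≤ n → Module.Flat R (A ⧸ I ^ n)) (n : ℕ) :
    Module.Flat R (powMod R I n) := by
  haveI := flat_powQuot_zero hR h n
  refine CAlgUI.flat_left_of_ui (f := (powMod R I n).subtype)
    (CAlgUI.ui_of_flat_quotient (g := (Ideal.Quotient.mkₐ R (I ^ n)).toLinearMap)
      (Submodule.injective_subtype _) (fun a => ?_) Ideal.Quotient.mk_surjective)
  show Ideal.Quotient.mk (I ^ n) a = 0 ↔ _
  rw [Ideal.Quotient.eq_zero_iff_mem]
  exact ⟨fun ha => ⟨⟨a, ha⟩, rfl⟩, fun ⟨x, hx⟩ => hx ▸ x.2⟩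

theorem flat_powQuot (hR : Module.Flat R A) (h : ∀ n, 1 ≤ n → Module.Flat R (A ⧸ I ^ n)) (n : ℕ) :
    Module.Flat R (powQuot R I n) := by
  haveI := flat_powQuot_zero hR h n
  haveI := flat_powQuot_zero hR h (n + 1)
  have hle : I ^ (n + 1) ≤ I ^ n := Ideal.pow_le_pow_right n.le_succ
  let i : powQuot R I n →ₗ[R] A ⧸ I ^ (n + 1) :=
    ((powMod R I (n + 1)).comap (powMod R I n).subtype).liftQ
      ((Ideal.Quotient.mkₐ R (I ^ (n + 1))).toLinearMap ∘ₗ (powMod R I n).subtype)
      (fun x hx => Ideal.Quotient.eq_zero_iff_mem.mpr hx)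
  refine CAlgUI.flat_left_of_ui (f := i)
    (CAlgUI.ui_of_flat_quotient (g := (Ideal.Quotient.factorₐ R hle).toLinearMap) ?_ (fun a => ?_)
      (Ideal.Quotient.factor_surjective hle))
  · rw [injective_iff_map_eq_zero]
    intro q hq
    obtain ⟨x, rfl⟩ := Submodule.mkQ_surjective _ q
    exact (Submodule.Quotient.mk_eq_zero _).mpr
      (Ideal.Quotient.eq_zero_iff_mem.mp hq : (x : A) ∈ I ^ (n + 1))
  · obtain ⟨a, rfl⟩ := Ideal.Quotient.mk_surjective a
    show Ideal.Quotient.mk (I ^ n) a = 0 ↔ _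
    rw [Ideal.Quotient.eq_zero_iff_mem]
    constructor
    · exact fun ha => ⟨Submodule.Quotient.mk ⟨a, ha⟩, rfl⟩
    · rintro ⟨q, hq⟩
      obtain ⟨x, rfl⟩ := Submodule.mkQ_surjective _ q
      have h1 : (x : A) - a ∈ I ^ (n + 1) := Ideal.Quotient.eq.mp hq
      simpa using sub_mem x.2 (hle h1)

variable (R I)

/-- `x ↦ x / aⁿ`. -/
noncomputable def divPow (a : I) (n : ℕ) :
    powMod R I n →ₗ[R] BlowUp.affineAlgebra A I (a : A) where
  toFun x := ⟨algebraMap A (Localization.Away (a : A)) x * Away.invSelf (a : A) ^ n,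
    BlowUpLib.mul_invSelf_pow_mem I a n x x.2⟩
  map_add' x y := Subtype.ext (by simp [add_mul])
  map_smul' r x := Subtype.ext (by
    show algebraMap A _ ((r • x : powMod R I n) : A) * _ = r • (algebraMap A _ (x : A) * _)
    rw [Submodule.coe_smul, Algebra.smul_def, map_mul, ← IsScalarTower.algebraMap_apply R A,
      Algebra.smul_def, mul_assoc])

variable {R I}

theorem val_divPow (a : I) (n : ℕ) (x : powMod R I n) :
    (divPow R I a n x : Localization.Away (a : A)) =
      algebraMap A (Localization.Away (a : A)) x * Away.invSelf (a : A) ^ n := rfl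

theorem invSelf_cancel (a : I) (n : ℕ) :
    algebraMap A (Localization.Away (a : A)) ((a : A) ^ n) * Away.invSelf (a : A) ^ n = 1 := by
  rw [map_pow, ← mul_pow, Away.mul_invSelf, one_pow]

theorem pow_mul_mem (a : I) (k n : ℕ) {x : A} (hx : x ∈ I ^ n) : (a : A) ^ k * x ∈ I ^ (k + n) := by
  rw [pow_add]
  exact Ideal.mul_mem_mul (Ideal.pow_mem_pow a.2 k) hx

theorem divPow_shift (a : I) (k n : ℕ) (x : powMod R I n) :
    divPow R I a (k + n) ⟨(a : A) ^ k * x, pow_mul_mem a k n x.2⟩ = divPow R I a n x := by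
  refine Subtype.ext ?_
  rw [val_divPow, val_divPow, map_mul, pow_add]
  linear_combination (algebraMap A (Localization.Away (a : A)) x * Away.invSelf (a : A) ^ n) * invSelf_cancel a k

theorem exists_divPow (a : I) (q : BlowUp.affineAlgebra A I (a : A)) :
    ∃ n, ∀ m, n ≤ m → ∃ x, divPow R I a m x = q := by
  suffices h : ∃ n x, divPow R I a n x = q by
    obtain ⟨n, x, rfl⟩ := h
    refine ⟨n, fun m hm => ?_⟩
    obtain ⟨k, rfl⟩ := Nat.exists_eq_add_of_le' hm
    exact ⟨_, divPow_shift a k n x⟩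
  obtain ⟨q, hq⟩ := q
  suffices h : ∃ n, ∃ x ∈ I ^ n, algebraMap A (Localization.Away (a : A)) x * Away.invSelf (a : A) ^ n = q by
    obtain ⟨n, x, hx, e⟩ := h
    exact ⟨n, ⟨x, hx⟩, Subtype.ext e⟩
  change q ∈ Algebra.adjoin _ _ at hq
  induction hq using Algebra.adjoin_induction with
  | mem q hq =>
    obtain ⟨x, hx, rfl⟩ := hq
    refine ⟨1, x, by rwa [pow_one], ?_⟩
    rw [pow_one, eq_comm, IsLocalization.mk'_eq_iff_eq_mul, mul_assoc, mul_comm (Away.invSelf (a : A)),
      Away.mul_invSelf, mul_one]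
  | algebraMap r => exact ⟨0, r, by simp, by simp⟩
  | add p q _ _ hp hq =>
    obtain ⟨n, x, hx, rfl⟩ := hp
    obtain ⟨m, y, hy, rfl⟩ := hq
    refine ⟨m + n, (a : A) ^ m * x + (a : A) ^ n * y, add_mem (pow_mul_mem a m n hx) ?_, ?_⟩
    · rw [add_comm]; exact pow_mul_mem a n m hy
    · rw [map_add, map_mul, map_mul, pow_add]
      linear_combination (algebraMap A (Localization.Away (a : A)) x * Away.invSelf (a : A) ^ n) * invSelf_cancel a m +
        (algebraMap A (Localization.Away (a : A)) y * Away.invSelf (a : A) ^ m) * invSelf_cancel a n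
  | mul p q _ _ hp hq =>
    obtain ⟨n, x, hx, rfl⟩ := hp
    obtain ⟨m, y, hy, rfl⟩ := hq
    refine ⟨n + m, x * y, by rw [pow_add]; exact Ideal.mul_mem_mul hx hy, ?_⟩
    rw [map_mul, pow_add]; ring

theorem exists_common (a : I) {l : ℕ} (x : Fin l → BlowUp.affineAlgebra A I (a : A)) :
    ∃ N, ∃ y : Fin l → powMod R I N, ∀ i, divPow R I a N (y i) = x i := by
  choose n hn using fun i => exists_divPow (R := R) a (x i)
  exact ⟨Finset.univ.sup n, Classical.skolem.mp fun i => hn i _ (Finset.le_sup (Finset.mem_univ i))⟩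

theorem flat_affineAlgebra (hR : Module.Flat R A) (h : ∀ n, 1 ≤ n → Module.Flat R (A ⧸ I ^ n)) (a : I) :
    Module.Flat R (BlowUp.affineAlgebra A I (a : A)) := by
  refine flat_of_approx fun {l} f x hx => ?_
  obtain ⟨N, y, hy⟩ := exists_common (R := R) a x
  have h0 : divPow R I a N (∑ i, f i • y i) = 0 := by
    rw [map_sum]; simp only [map_smul, hy]; exact hx
  have h1 : algebraMap A (Localization.Away (a : A)) (∑ i, f i • y i : powMod R I N) = 0 := by
    have h2 : algebraMap A (Localization.Away (a : A)) ((∑ i, f i • y i : powMod R I N) : A) *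
        Away.invSelf (a : A) ^ N = 0 := congrArg Subtype.val h0
    linear_combination algebraMap A (Localization.Away (a : A)) ((a : A) ^ N) * h2 -
      algebraMap A (Localization.Away (a : A)) ((∑ i, f i • y i : powMod R I N) : A) * invSelf_cancel a N
  obtain ⟨⟨_, k, rfl⟩, hk⟩ := (IsLocalization.map_eq_zero_iff (Submonoid.powers (a : A)) _ _).mp h1
  refine ⟨ModuleCat.of R (powMod R I (k + N)), flat_powMod hR h (k + N), divPow R I a (k + N),
    fun i => ⟨(a : A) ^ k * y i, pow_mul_mem a k N (y i).2⟩, fun i => (divPow_shift a k N _).trans (hy i), ?_⟩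
  refine Subtype.ext ?_
  change _ = (0 : A)
  rw [← hk]
  simp only [Submodule.coe_sum, Submodule.coe_smul, Finset.mul_sum, mul_smul_comm]

theorem flat_affineAlgebra_quot (hR : Module.Flat R A) (h : ∀ n, 1 ≤ n → Module.Flat R (A ⧸ I ^ n)) (a : I) :
    Module.Flat R (BlowUp.affineAlgebra A I (a : A) ⧸
      Ideal.span {algebraMap A (BlowUp.affineAlgebra A I (a : A)) (a : A)}) := by
  set J := Ideal.span {algebraMap A (BlowUp.affineAlgebra A I (a : A)) (a : A)}
  let π : BlowUp.affineAlgebra A I (a : A) →ₗ[R] _ ⧸ J := (Ideal.Quotient.mkₐ R J).toLinearMap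
  have hkill : ∀ n, (powMod R I (n + 1)).comap (powMod R I n).subtype ≤
      LinearMap.ker (π ∘ₗ divPow R I a n) := fun n x hx => by
    refine Ideal.Quotient.eq_zero_iff_mem.mpr (Ideal.mem_span_singleton'.mpr
      ⟨divPow R I a (n + 1) ⟨x, hx⟩, Subtype.ext ?_⟩)
    show algebraMap A _ (x : A) * _ * algebraMap A _ (a : A) = algebraMap A _ (x : A) * _
    rw [pow_succ]
    linear_combination (algebraMap A (Localization.Away (a : A)) x * Away.invSelf (a : A) ^ n) *
      (Away.mul_invSelf (S := Localization.Away (a : A)) (a : A))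
  refine flat_of_approx fun {l} f x hx => ?_
  choose q hq using fun i => Ideal.Quotient.mk_surjective (x i)
  obtain ⟨N, y, hy⟩ := exists_common (R := R) a q
  have h0 : π (divPow R I a N (∑ i, f i • y i)) = 0 := by
    rw [map_sum, map_sum]; simp only [map_smul, hy]
    have : ∀ i, π (q i) = x i := hq
    simp only [this]; exact hx
  obtain ⟨c, hc⟩ := Ideal.mem_span_singleton'.mp (Ideal.Quotient.eq_zero_iff_mem.mp h0)
  obtain ⟨M, hM⟩ := exists_divPow (R := R) a c
  obtain ⟨z, hz⟩ := hM M le_rfl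
  let S : A := ((∑ i, f i • y i : powMod R I N) : A)
  have h1 : algebraMap A (Localization.Away (a : A)) ((a : A) ^ M * S) =
      algebraMap A (Localization.Away (a : A)) ((a : A) ^ (N + 1) * z) := by
    have h2 : algebraMap A _ (z : A) * Away.invSelf (a : A) ^ M * algebraMap A _ (a : A) =
        algebraMap A (Localization.Away (a : A)) S * Away.invSelf (a : A) ^ N := by
      rw [← hz] at hc
      exact congrArg Subtype.val hc
    rw [map_mul, map_mul, pow_succ, map_mul]
    linear_combination (-(algebraMap A (Localization.Away (a : A)) ((a : A) ^ M) *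
      algebraMap A (Localization.Away (a : A)) ((a : A) ^ N))) * h2 -
      algebraMap A (Localization.Away (a : A)) ((a : A) ^ M) * algebraMap A (Localization.Away (a : A)) S *
        invSelf_cancel a N +
      algebraMap A (Localization.Away (a : A)) ((a : A) ^ N) * algebraMap A (Localization.Away (a : A)) z *
        algebraMap A (Localization.Away (a : A)) (a : A) * invSelf_cancel a M
  obtain ⟨⟨_, k, rfl⟩, hk⟩ := (IsLocalization.eq_iff_exists (Submonoid.powers (a : A)) _).mp h1
  refine ⟨ModuleCat.of R (powQuot R I (k + M + N)), flat_powQuot hR h _,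
    Submodule.liftQ _ (π ∘ₗ divPow R I a (k + M + N)) (hkill _),
    fun i => Submodule.Quotient.mk ⟨(a : A) ^ (k + M) * y i, pow_mul_mem a (k + M) N (y i).2⟩, fun i => ?_, ?_⟩
  · show π (divPow R I a (k + M + N) _) = x i
    rw [divPow_shift a (k + M) N (y i), hy i]
    exact hq i
  · let L : powMod R I N →ₗ[R] powMod R I (k + M + N) :=
      { toFun := fun x => ⟨(a : A) ^ (k + M) * x, pow_mul_mem a (k + M) N x.2⟩
        map_add' := fun p q => Subtype.ext (mul_add _ _ _)
        map_smul' := fun r p => Subtype.ext (mul_smul_comm r _ _) }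
    show ∑ i, f i • Submodule.mkQ _ (L (y i)) = 0
    simp only [← map_smul, ← map_sum]
    refine (Submodule.Quotient.mk_eq_zero _).mpr ?_
    show (a : A) ^ (k + M) * S ∈ I ^ (k + M + N + 1)
    have hk' : (a : A) ^ k * ((a : A) ^ M * S) = (a : A) ^ k * ((a : A) ^ (N + 1) * z) := hk
    rw [pow_add (a : A), mul_assoc, hk', show k + M + N + 1 = k + (N + 1 + M) by omega]
    exact pow_mul_mem a k _ (pow_mul_mem a (N + 1) M z.2)

end Groth.Agent.BlowUpX
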