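import Groth.Agent.BlowExc.Main
import Groth.Agent.BlowUpX.ReesFlat
import Groth.Agent.FlatX.RelCartier
import Groth.Agent.MeroX.BaseChange

/-!
Blowing up an ideal with flat powers is flat and commutes with base change.
-/

universe u

open CategoryTheory CategoryTheory.Limits AlgebraicGeometry TopologicalSpace

namespace Groth.Agent.BlowUpX

open Groth.Agent.BlowUpLib

variable {X X' S : Scheme.{u}} {f : X ⟶ S} [Flat f] {C : X.IdealSheafData} {b : X' ⟶ X}

theorem exists_flat_chart (hfl : ∀ m : ℕ, 1 ≤ m → Flat ((C ^ m).subschemeι ≫ f)) (hb : BlowUp.IsBlowUp b C)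
    (y : X') : ∃ (B : Type u) (_ : CommRing B) (J : Ideal B) (k : Spec (CommRingCat.of B) ⟶ X')
      (_ : IsOpenImmersion k), y ∈ Set.range k ∧ (C.comap b).comap k = centre J ∧ Flat (k ≫ b ≫ f) ∧
        Flat (Spec.map (CommRingCat.ofHom (Ideal.Quotient.mk J)) ≫ k ≫ b ≫ f) := by
  obtain ⟨W, hxW⟩ := FlatX.exists_chart f (b y)
  obtain ⟨U, hU, hyU, e⟩ := exists_isAffineOpen_mem_and_subset (U := f ⁻¹ᵁ W.1) hxW
  let I := C.ideal ⟨U, hU⟩
  obtain ⟨ε, hε⟩ := exists_iso (isBlowUp_of_isPullback (isPullback_morphismRestrict b U) hb)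
    (isBlowUp_piece C ⟨U, hU⟩)
  let y' : (b ⁻¹ᵁ U).toScheme := ⟨y, hyU⟩
  obtain ⟨a, p, hp⟩ := chart_covers I (ε.hom y')
  let B := BlowUp.affineAlgebra Γ(X, U) I (a : Γ(X, U))
  let k : Spec (CommRingCat.of B) ⟶ X' := chart I a ≫ ε.inv ≫ (b ⁻¹ᵁ U).ι
  have hkb : k ≫ b = Spec.map (CommRingCat.ofHom (algebraMap Γ(X, U) B)) ≫ hU.fromSpec := by
    have h1 : ε.inv ≫ (b ∣_ U) = pieceMap C ⟨U, hU⟩ := by rw [← hε, Iso.inv_hom_id_assoc]
    simp only [k, Category.assoc]
    rw [← morphismRestrict_ι, reassoc_of% h1, pieceMap, Category.assoc, IsAffineOpen.isoSpec_inv_ι,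
      ← chart_toBase, Category.assoc]
  letI := (f.appLE W.1 U e).hom.toAlgebra
  have hkbf : k ≫ b ≫ f = Spec.map (CommRingCat.ofHom (algebraMap Γ(S, W.1) B)) ≫ W.2.fromSpec := by
    rw [reassoc_of% hkb, ← IsAffineOpen.SpecMap_appLE_fromSpec f W.2 hU e, ← Spec.map_comp_assoc]
    rfl
  have hR : Module.Flat Γ(S, W.1) Γ(X, U) :=
    RingHom.flat_algebraMap_iff.mp (HasRingHomProperty.appLE @Flat f inferInstance W ⟨U, hU⟩ e)
  have hq : ∀ m, 1 ≤ m → Module.Flat Γ(S, W.1) (Γ(X, U) ⧸ I ^ m) := fun m hm => by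
    refine RingHom.flat_algebraMap_iff.mp (FlatX.flat_congr _ ?_
      (FlatX.flat_quotApp f (C ^ m) (hfl m hm) W ⟨U, hU⟩ e))
    rw [Scheme.IdealSheafData.ideal_pow, Pi.pow_apply]
  let J : Ideal B := Ideal.span {algebraMap Γ(X, U) B (a : Γ(X, U))}
  refine ⟨B, inferInstance, J, k, inferInstance, ⟨p, ?_⟩, ?_, ?_, ?_⟩
  · show (b ⁻¹ᵁ U).ι (ε.inv (chart I a p)) = y
    have h2 : ε.inv (chart I a p) = y' := by
      rw [hp, ← Scheme.Hom.comp_apply, Iso.hom_inv_id]
      rfl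
    rw [h2]
    rfl
  · rw [← Scheme.IdealSheafData.comap_comp, hkb, Scheme.IdealSheafData.comap_comp,
      comap_fromSpec C ⟨U, hU⟩, BlowExc.centre_comap]
    congr 1
    refine le_antisymm (Ideal.map_le_iff_le_comap.mpr fun x hx => ?_)
      ((Ideal.span_singleton_le_iff_mem _).mpr (Ideal.mem_map_of_mem _ a.2))
    exact Ideal.mem_span_singleton'.mpr ⟨frac I ⟨x, hx⟩ a, frac_mul I ⟨x, hx⟩ a⟩
  · rw [hkbf]
    haveI : Flat (Spec.map (CommRingCat.ofHom (algebraMap Γ(S, W.1) B))) :=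
      (HasRingHomProperty.Spec_iff (P := @Flat)).mpr (by
        rw [CommRingCat.hom_ofHom]
        exact RingHom.flat_algebraMap_iff.mpr (flat_affineAlgebra hR hq a))
    infer_instance
  · rw [hkbf, ← Spec.map_comp_assoc, ← CommRingCat.ofHom_comp]
    haveI : Flat (Spec.map (CommRingCat.ofHom (R := Γ(S, W.1)) (S := ↥B ⧸ J)
        ((Ideal.Quotient.mk J).comp (algebraMap Γ(S, W.1) B)))) :=
      (HasRingHomProperty.Spec_iff (P := @Flat)).mpr
        (by
          rw [CommRingCat.hom_ofHom]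
          exact RingHom.flat_algebraMap_iff.mpr (flat_affineAlgebra_quot hR hq a))
    infer_instance

theorem flat_blowUp_of_flat_powers (hfl : ∀ m : ℕ, 1 ≤ m → Flat ((C ^ m).subschemeι ≫ f))
    (hb : BlowUp.IsBlowUp b C) : Flat (b ≫ f) ∧ Flat ((C.comap b).subschemeι ≫ b ≫ f) := by
  choose B hB J k hk hy hJ hf₁ hf₂ using exists_flat_chart hfl hb
  constructor
  · let 𝒰 : X'.OpenCover :=
      { I₀ := X'
        X := fun y => Spec (CommRingCat.of (B y))
        f := k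
        mem₀ := by rw [Scheme.presieve₀_mem_precoverage_iff]; exact ⟨fun y => ⟨y, hy y⟩, hk⟩ }
    exact IsZariskiLocalAtSource.of_openCover (P := @Flat) 𝒰 hf₁
  · choose t ht hte hrange using fun z : (C.comap b).subscheme =>
      BlowExc.exists_chart (C.comap b).subschemeι (k ((C.comap b).subschemeι z)) (J ((C.comap b).subschemeι z))
        (by rw [Scheme.IdealSheafData.ker_subschemeι]; exact hJ _)
    let 𝒰 : (C.comap b).subscheme.OpenCover :=
      { I₀ := (C.comap b).subscheme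
        X := fun z => Spec (CommRingCat.of (B ((C.comap b).subschemeι z) ⧸ J ((C.comap b).subschemeι z)))
        f := t
        mem₀ := by
          rw [Scheme.presieve₀_mem_precoverage_iff]
          exact ⟨fun z => ⟨z, hrange z z (hy _)⟩, ht⟩ }
    refine IsZariskiLocalAtSource.of_openCover (P := @Flat) 𝒰 fun z => ?_
    show Flat (t z ≫ (C.comap b).subschemeι ≫ b ≫ f)
    rw [reassoc_of% (hte z)]
    exact hf₂ _

theorem isBlowUp_baseChange_of_flat_powers {T XT XT' : Scheme.{u}}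
    (hfl : ∀ m : ℕ, 1 ≤ m → Flat ((C ^ m).subschemeι ≫ f)) (hb : BlowUp.IsBlowUp b C)
    (g : T ⟶ S) (pX : XT ⟶ X) (fT : XT ⟶ T) (hX : IsPullback pX fT f g)
    (pX' : XT' ⟶ X') (bT : XT' ⟶ XT) (hX' : IsPullback pX' bT b pX) :
    BlowUp.IsBlowUp bT (C.comap pX) := by
  refine ⟨?_, fun Y h hh => ?_⟩
  · haveI := (flat_blowUp_of_flat_powers hfl hb).2
    have hcart := MeroX.isEffCartier_baseChange (b ≫ f) (C.comap b) hb.1 g
    let e := (hX'.paste_vert hX).isoPullback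
    have he : e.hom ≫ pullback.fst (b ≫ f) g = pX' := (hX'.paste_vert hX).isoPullback_hom_fst
    rw [← Scheme.IdealSheafData.comap_comp, ← hX'.w, Scheme.IdealSheafData.comap_comp, ← he,
      Scheme.IdealSheafData.comap_comp]
    exact isEffCartier_comap_flat _ hcart
  · rw [← Scheme.IdealSheafData.comap_comp] at hh
    obtain ⟨u, hu, huu⟩ := hb.2 Y (h ≫ pX) hh
    refine ⟨hX'.lift u h hu, hX'.lift_snd _ _ _, fun v hv => ?_⟩
    refine hX'.hom_ext ?_ ?_
    · rw [hX'.lift_fst]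
      exact huu _ (by dsimp only at *; rw [Category.assoc, hX'.w, reassoc_of% hv])
    · rw [hX'.lift_snd]; exact hv

end Groth.Agent.BlowUpX
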