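import Groth.Agent.PinchPO.ToRS
import Groth.Agent.BlowUpX.BlowSpecGen
import Groth.Agent.FlatX.RelCartier
import Groth.Agent.BlowUpLib.Glue

/-!
The pushout of an effective Cartier divisor along a finite flat cover is recovered by blowing up.
-/

universe u

open CategoryTheory CategoryTheory.Limits AlgebraicGeometry TopologicalSpace Opposite

attribute [-instance] CategoryTheory.catToReflQuiver

namespace Groth.Agent.BlowUpX

theorem exists_pow_iff {A B : Type u} [CommRing A] [CommRing B] (φ : A →+* B) (I : Ideal A) (J : Ideal B)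
    (h : ∀ y, y ∈ J ↔ ∃ a ∈ I, φ a = y) : ∀ n, 1 ≤ n → ∀ y, y ∈ J ^ n ↔ ∃ a ∈ I ^ n, φ a = y := by
  have hmap : I.map φ = J := le_antisymm (Ideal.map_le_iff_le_comap.mpr fun a ha => (h _).mpr ⟨a, ha, rfl⟩)
    fun y hy => by
      obtain ⟨a, ha, rfl⟩ := (h y).mp hy
      exact Ideal.mem_map_of_mem φ ha
  intro n hn
  induction n, hn using Nat.le_induction with
  | base => simpa using h
  | succ n hn ih =>
    intro y
    constructor
    · intro hy
      rw [pow_succ] at hy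
      induction hy using Submodule.mul_induction_on' with
      | mem_mul_mem p hp q hq =>
        obtain ⟨a, ha, rfl⟩ := (ih p).mp hp
        obtain ⟨c, hc, rfl⟩ := (h q).mp hq
        exact ⟨a * c, by rw [pow_succ]; exact Ideal.mul_mem_mul ha hc, map_mul φ a c⟩
      | add p _ q _ hp hq =>
        obtain ⟨a, ha, rfl⟩ := hp
        obtain ⟨c, hc, rfl⟩ := hq
        exact ⟨a + c, add_mem ha hc, map_add φ a c⟩
    · rintro ⟨a, ha, rfl⟩
      rw [← hmap, ← Ideal.map_pow]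
      exact Ideal.mem_map_of_mem φ ha

/-- Flatness of the thickenings of a conductor ideal. -/
theorem flat_quot_pow_of_conductor {R A B : Type u} [CommRing R] [CommRing A] [CommRing B] [Algebra R A]
    [Algebra R B] (φ : A →ₐ[R] B) (hinj : Function.Injective φ) (I : Ideal A) (J : Ideal B)
    (h : ∀ y, y ∈ J ↔ ∃ a ∈ I, φ a = y) (h0 : Module.Flat R (A ⧸ I))
    (hB : ∀ n, 1 ≤ n → Module.Flat R (B ⧸ J ^ n)) : ∀ n, 1 ≤ n → Module.Flat R (A ⧸ I ^ n) := by
  intro n hn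
  induction n, hn using Nat.le_induction with
  | base => rwa [pow_one]
  | succ n hn ih =>
    have hI : I ^ (n + 1) ≤ I ^ n := Ideal.pow_le_pow_right n.le_succ
    have hJ : J ^ (n + 1) ≤ J ^ n := Ideal.pow_le_pow_right n.le_succ
    let g : (B ⧸ J ^ (n + 1)) →ₐ[R] (B ⧸ J ^ n) := Ideal.Quotient.factorₐ R hJ
    let g' : (A ⧸ I ^ (n + 1)) →ₐ[R] (A ⧸ I ^ n) := Ideal.Quotient.factorₐ R hI
    have hg : Function.Surjective g.toLinearMap := Ideal.Quotient.factor_surjective hJ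
    have hg' : Function.Surjective g'.toLinearMap := Ideal.Quotient.factor_surjective hI
    haveI := hB n hn
    haveI := hB (n + 1) (by omega)
    haveI := ih
    haveI hK : Module.Flat R (LinearMap.ker g.toLinearMap) :=
      CAlgUI.flat_left_of_ui (f := (LinearMap.ker g.toLinearMap).subtype)
        (CAlgUI.ui_of_flat_quotient (g := g.toLinearMap) (Submodule.injective_subtype _)
          (LinearMap.exact_subtype_ker_map _) hg)
    have hle : I ^ (n + 1) ≤ (J ^ (n + 1)).comap φ.toRingHom := fun a ha =>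
      (exists_pow_iff φ.toRingHom I J h (n + 1) (by omega) _).mpr ⟨a, ha, rfl⟩
    let φb : (A ⧸ I ^ (n + 1)) →ₐ[R] (B ⧸ J ^ (n + 1)) := Ideal.quotientMapₐ (J ^ (n + 1)) φ hle
    have hmem : ∀ x ∈ LinearMap.ker g'.toLinearMap, φb.toLinearMap x ∈ LinearMap.ker g.toLinearMap := by
      intro x hx
      obtain ⟨a, rfl⟩ := Ideal.Quotient.mk_surjective x
      have ha : a ∈ I ^ n := Ideal.Quotient.eq_zero_iff_mem.mp hx
      exact Ideal.Quotient.eq_zero_iff_mem.mpr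
        ((exists_pow_iff φ.toRingHom I J h n hn _).mpr ⟨a, ha, rfl⟩)
    let ψ := φb.toLinearMap.restrict hmem
    have hψ : Function.Bijective ψ := by
      constructor
      · rw [injective_iff_map_eq_zero]
        rintro ⟨x, hx⟩ hx0
        obtain ⟨a, rfl⟩ := Ideal.Quotient.mk_surjective x
        have h1 : φ a ∈ J ^ (n + 1) := Ideal.Quotient.eq_zero_iff_mem.mp (congrArg Subtype.val hx0)
        obtain ⟨a', ha', e⟩ := (exists_pow_iff φ.toRingHom I J h (n + 1) (by omega) _).mp h1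
        refine Subtype.ext (Ideal.Quotient.eq_zero_iff_mem.mpr ?_)
        rwa [← hinj e]
      · rintro ⟨x, hx⟩
        obtain ⟨y, rfl⟩ := Ideal.Quotient.mk_surjective x
        obtain ⟨a, ha, rfl⟩ := (exists_pow_iff φ.toRingHom I J h n hn _).mp
          (Ideal.Quotient.eq_zero_iff_mem.mp hx)
        exact ⟨⟨Ideal.Quotient.mk _ a, Ideal.Quotient.eq_zero_iff_mem.mpr ha⟩, Subtype.ext rfl⟩
    haveI : Module.Flat R (LinearMap.ker g'.toLinearMap) :=
      Module.Flat.of_linearEquiv (LinearEquiv.ofBijective ψ hψ)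
    exact CAlgUI.flat_middle (f := (LinearMap.ker g'.toLinearMap).subtype) (g := g'.toLinearMap)
      (Submodule.injective_subtype _) (LinearMap.exact_subtype_ker_map _) hg'

theorem stalkMap_inj_of_flat {X Y : Scheme.{u}} (f : X ⟶ Y) [Flat f] (x : X) :
    Function.Injective (f.stalkMap x).hom := by
  letI := (f.stalkMap x).hom.toAlgebra
  haveI : Module.Flat (Y.presheaf.stalk (f x)) (X.presheaf.stalk x) := Flat.iff_flat_stalkMap f |>.mp ‹_› x
  haveI : IsLocalHom (algebraMap (Y.presheaf.stalk (f x)) (X.presheaf.stalk x)) :=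
    inferInstanceAs (IsLocalHom (f.stalkMap x).hom)
  haveI := Module.FaithfullyFlat.of_flat_of_isLocalHom (A := Y.presheaf.stalk (f x)) (B := X.presheaf.stalk x)
  exact FaithfulSMul.algebraMap_injective (Y.presheaf.stalk (f x)) (X.presheaf.stalk x)

theorem eq_zero_of_appLE {Z Y : Scheme.{u}} (h : Z ⟶ Y) [Flat h] [Surjective h] (V : Y.Opens) (W : Z.Opens)
    (hW : W = h ⁻¹ᵁ V) (c : Γ(Y, V)) (hc : h.appLE V W hW.le c = 0) : c = 0 := by
  refine TopCat.Presheaf.section_ext Y.sheaf V c 0 fun d hd => ?_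
  obtain ⟨z, rfl⟩ := h.surjective d
  have hzW : z ∈ W := hW ▸ hd
  have h2 : (h.stalkMap z).hom (Y.presheaf.germ V (h z) hd c) = 0 := by
    rw [← CommRingCat.comp_apply, Scheme.Hom.germ_stalkMap, CommRingCat.comp_apply,
      ← Z.presheaf.germ_res_apply (homOfLE hW.le) z hzW (h.app V c)]
    have e : Z.presheaf.map (homOfLE hW.le).op (h.app V c) = h.appLE V W hW.le c := rfl
    rw [e, hc, map_zero]
  have h3 := stalkMap_inj_of_flat h z (h2.trans (map_zero (h.stalkMap z).hom).symm)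
  exact h3.trans (map_zero (Y.presheaf.germ V (h z) hd).hom).symm

variable {Xt Dt D X : Scheme.{u}} {ι : Dt ⟶ Xt} [IsClosedImmersion ι] {h : Dt ⟶ D} [Flat h] [Surjective h]
  {b : Xt ⟶ X} [IsAffineHom b] {j : D ⟶ X} [IsClosedImmersion j]

theorem pinch_data (hP : IsPushout ι h b j) (U : X.affineOpens) :
    Function.Injective (b.app U.1).hom ∧
      ∀ y, y ∈ ι.ker.ideal ⟨b ⁻¹ᵁ U.1, U.2.preimage b⟩ ↔ ∃ a ∈ j.ker.ideal U, (b.app U.1).hom a = y := by
  have hY : ∀ y : D, ∃ c : RingPO.Chart ι h, y ∈ c.V := RingPO.chart_of_affineHom hP.w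
  have hF := RingPO.isFibreProd_of_affineOpen hP hY U.2
  have hI : ∀ a, a ∈ j.ker.ideal U ↔ (j.appLE U.1 (j ⁻¹ᵁ U.1) le_rfl).hom a = 0 := fun a => by
    rw [j.ker_apply, RingHom.mem_ker, Scheme.Hom.app_eq_appLE]
  have hJ : ∀ y, y ∈ ι.ker.ideal ⟨b ⁻¹ᵁ U.1, U.2.preimage b⟩ ↔
      (RingPO.chartOver hP U.2).p y = 0 := fun y => by
    rw [ι.ker_apply, RingHom.mem_ker, Scheme.Hom.app_eq_appLE]
    rfl
  have hq : ∀ c, (RingPO.chartOver hP U.2).q c = 0 → c = 0 := fun c hc =>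
    eq_zero_of_appLE h (j ⁻¹ᵁ U.1) (ι ⁻¹ᵁ b ⁻¹ᵁ U.1) (RingPO.chartOver hP U.2).eq c hc
  rw [Scheme.Hom.app_eq_appLE]
  refine ⟨(injective_iff_map_eq_zero _).mpr fun a ha => hF.ext a 0 (ha.trans (map_zero _).symm) ?_, fun y => ?_⟩
  · rw [map_zero]
    refine hq _ ?_
    refine (hF.comm a).symm.trans ?_
    exact (congrArg _ ha).trans (map_zero _)
  · constructor
    · intro hy
      obtain ⟨a, ha1, ha2⟩ := hF.exists_of_eq 0 y (by rw [(hJ y).mp hy, map_zero])
      exact ⟨a, (hI a).mpr ha2, ha1⟩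
    · rintro ⟨a, ha, rfl⟩
      exact (hJ _).mpr ((hF.comm a).trans ((congrArg _ ((hI a).mp ha)).trans (map_zero _)))

theorem pinch_map (hP : IsPushout ι h b j) (U : X.affineOpens) :
    (j.ker.ideal U).map (b.app U.1).hom = ι.ker.ideal ⟨b ⁻¹ᵁ U.1, U.2.preimage b⟩ := by
  refine le_antisymm (Ideal.map_le_iff_le_comap.mpr fun a ha => ((pinch_data hP U).2 _).mpr ⟨a, ha, rfl⟩) ?_
  intro y hy
  obtain ⟨a, ha, rfl⟩ := ((pinch_data hP U).2 y).mp hy
  exact Ideal.mem_map_of_mem _ ha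

theorem pinch_comap (hP : IsPushout ι h b j) : j.ker.comap b = ι.ker := by
  refine Scheme.IdealSheafData.ext_of_iSup_eq_top
    (fun U : X.affineOpens => (⟨b ⁻¹ᵁ U.1, U.2.preimage b⟩ : Xt.affineOpens))
    (top_le_iff.mp fun y _ => ?_) fun U => ?_
  · obtain ⟨W, hW, hyW, -⟩ := exists_isAffineOpen_mem_and_subset (U := (⊤ : X.Opens)) (Set.mem_univ (b y))
    exact Opens.mem_iSup.mpr ⟨⟨W, hW⟩, hyW⟩
  · rw [ModPairLib.ideal_comap _ b U ⟨b ⁻¹ᵁ U.1, U.2.preimage b⟩ le_rfl, ← Scheme.Hom.app_eq_appLE, pinch_map hP]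

theorem pinch_isBlowUp (hP : IsPushout ι h b j) (hι : BlowUp.IsEffCartierIdeal ι.ker) :
    BlowUp.IsBlowUp b j.ker := by
  refine BlowUpLib.isBlowUp_of_local (fun U : X.affineOpens => U.2.fromSpec) (fun x => ?_)
    (fun U => Spec.map (b.app U.1)) (fun U => (U.2.preimage b).fromSpec) (fun U => ?_) (fun U => ?_)
  · obtain ⟨W, hW, hxW, -⟩ := exists_isAffineOpen_mem_and_subset (U := (⊤ : X.Opens)) (Set.mem_univ x)
    exact ⟨⟨W, hW⟩, hW.range_fromSpec.ge hxW⟩
  · refine IsOpenImmersion.isPullback _ _ _ _ ?_ ?_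
    · rw [Scheme.Hom.app_eq_appLE]
      exact (IsAffineOpen.SpecMap_appLE_fromSpec b U.2 (U.2.preimage b) le_rfl).symm
    · rw [IsAffineOpen.opensRange_fromSpec, IsAffineOpen.opensRange_fromSpec]
  · rw [BlowUpLib.comap_fromSpec]
    letI := (b.app U.1).hom.toAlgebra
    refine isBlowUp_Spec_cartier Γ(X, U.1) Γ(Xt, b ⁻¹ᵁ U.1) (pinch_data hP U).1 (j.ker.ideal U) ?_ ?_
    · intro y hy
      exact ((pinch_data hP U).2 y).mp ((pinch_map hP U).le hy)
    · have e : Curv2.idealSheaf Γ(X, U.1) (j.ker.ideal U) = BlowUpLib.centre (j.ker.ideal U) := rfl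
      rw [e, ← BlowUpLib.comap_fromSpec, ← Scheme.IdealSheafData.comap_comp]
      have e2 : Spec.map (CommRingCat.ofHom (algebraMap Γ(X, U.1) Γ(Xt, b ⁻¹ᵁ U.1))) ≫ U.2.fromSpec =
          (U.2.preimage b).fromSpec ≫ b := by
        rw [← IsAffineOpen.SpecMap_appLE_fromSpec b U.2 (U.2.preimage b) le_rfl, ← Scheme.Hom.app_eq_appLE]
        rfl
      rw [e2, Scheme.IdealSheafData.comap_comp, pinch_comap hP]
      exact BlowUpLib.isEffCartier_comap_flat _ hι

theorem pinch_flat {S : Scheme.{u}} (hP : IsPushout ι h b j) (hι : BlowUp.IsEffCartierIdeal ι.ker)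
    (sX : X ⟶ S) [Flat (j ≫ sX)] [Flat (ι ≫ b ≫ sX)] :
    ∀ n : ℕ, 1 ≤ n → Flat ((j.ker ^ n).subschemeι ≫ sX) := by
  have hflι : Flat (ι.ker.subschemeι ≫ b ≫ sX) := by
    have e : Flat (ι.toImage ≫ ι.imageι ≫ b ≫ sX) := by rw [Scheme.Hom.toImage_imageι_assoc]; infer_instance
    exact (MorphismProperty.cancel_left_of_respectsIso @Flat ι.toImage _).mp e
  have hflj : Flat (j.ker.subschemeι ≫ sX) := by
    have e : Flat (j.toImage ≫ j.imageι ≫ sX) := by rw [Scheme.Hom.toImage_imageι_assoc]; infer_instance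
    exact (MorphismProperty.cancel_left_of_respectsIso @Flat j.toImage _).mp e
  have hpow : ∀ n : ℕ, 1 ≤ n →
      BlowUp.IsEffCartierIdeal (ι.ker ^ n) ∧ Flat ((ι.ker ^ n).subschemeι ≫ b ≫ sX) := by
    intro n hn
    induction n, hn using Nat.le_induction with
    | base => rw [pow_one]; exact ⟨hι, hflι⟩
    | succ n hn ih => rw [pow_succ]; exact FlatX.flat_mul (b ≫ sX) ih.1 hι ih.2 hflι
  intro n hn
  refine FlatX.flat_subscheme_of_charts sX _ fun x => ?_
  obtain ⟨W, hxW⟩ := FlatX.exists_chart sX x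
  obtain ⟨U, hU, hxU, e⟩ := exists_isAffineOpen_mem_and_subset (U := sX ⁻¹ᵁ W.1) hxW
  refine ⟨W, ⟨U, hU⟩, e, hxU, ?_⟩
  let V : Xt.affineOpens := ⟨b ⁻¹ᵁ U, hU.preimage b⟩
  have eV : V.1 ≤ (b ≫ sX) ⁻¹ᵁ W.1 := fun z hz => e hz
  letI := (sX.appLE W.1 U e).hom.toAlgebra
  letI := ((b ≫ sX).appLE W.1 V.1 eV).hom.toAlgebra
  let φ : Γ(X, U) →ₐ[Γ(S, W.1)] Γ(Xt, V.1) :=
    { (b.app U).hom with
      commutes' := fun r => by
        show (b.app U).hom ((sX.appLE W.1 U e).hom r) = ((b ≫ sX).appLE W.1 V.1 eV).hom r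
        rw [← CommRingCat.comp_apply, Scheme.Hom.app_eq_appLE, Scheme.Hom.appLE_comp_appLE] }
  have h0 := FlatX.flat_quotApp sX j.ker hflj W ⟨U, hU⟩ e
  have hB : ∀ m, 1 ≤ m → Module.Flat Γ(S, W.1) (Γ(Xt, V.1) ⧸ (ι.ker.ideal V) ^ m) := fun m hm => by
    refine RingHom.flat_algebraMap_iff.mp (FlatX.flat_congr _ ?_
      (FlatX.flat_quotApp (b ≫ sX) (ι.ker ^ m) (hpow m hm).2 W V eV))
    rw [Scheme.IdealSheafData.ideal_pow, Pi.pow_apply]
  have key := flat_quot_pow_of_conductor φ (pinch_data hP ⟨U, hU⟩).1 (j.ker.ideal ⟨U, hU⟩) (ι.ker.ideal V)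
    (pinch_data hP ⟨U, hU⟩).2 (RingHom.flat_algebraMap_iff.mp h0) hB n hn
  refine FlatX.flat_congr _ ?_ (RingHom.flat_algebraMap_iff.mpr key)
  rw [Scheme.IdealSheafData.ideal_pow, Pi.pow_apply]

end Groth.Agent.BlowUpX
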