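import Groth.Agent.BlowUpX.Separate
import Groth.Agent.DimFormula.Stalk
import Groth.Agent.FlatLoc6.EquidimCat
import Groth.Prelude.Def_Found

/-!
# Proper intersection with an effective Cartier divisor
-/

universe u

open CategoryTheory CategoryTheory.Limits AlgebraicGeometry Order Topology

namespace Groth.Agent.BlowUpX

open DimFormula

variable {X : Scheme.{u}}

theorem coheight_fromSpecStalk (ζ : X) (p : PrimeSpectrum (X.presheaf.stalk ζ)) :
    coheight (X.fromSpecStalk ζ p : X) = height p := by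
  let c : PrimeSpectrum (X.presheaf.stalk ζ) → X := X.fromSpecStalk ζ
  have hc : IsEmbedding c := (X.fromSpecStalk ζ).isEmbedding
  have hsp : ∀ a b, c a ⤳ c b ↔ a ≤ b := fun a b =>
    hc.isInducing.specializes_iff.trans (PrimeSpectrum.le_iff_specializes a b).symm
  rw [← Order.height_toDual]
  refine (height_eq_of_strictMono (fun a => OrderDual.toDual (c a)) (fun a b hab => ?_) (fun a b hb => ?_) p).symm
  · exact lt_of_le_not_ge (α := Xᵒᵈ) ((hsp a b).2 hab.le) fun h => hab.not_ge ((hsp b a).1 h)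
  · obtain ⟨a', ha'⟩ : OrderDual.ofDual b ∈ Set.range c :=
      fromSpecStalk_range_of_specializes ((hb.le : OrderDual.ofDual b ⤳ c a).trans (fromSpecStalk_specializes ζ a))
    refine ⟨a', ?_, congrArg OrderDual.toDual ha'⟩
    have h1 : a' ≤ a := (hsp a' a).1 (ha'.symm ▸ (hb.le : OrderDual.ofDual b ⤳ c a))
    refine lt_of_le_of_ne h1 fun e => hb.ne ?_
    subst e
    exact (congrArg OrderDual.toDual ha').symm

theorem codim_fromSpecStalk [IsLocallyNoetherian X] (ζ : X) (p : PrimeSpectrum (X.presheaf.stalk ζ)) :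
    ringKrullDim (X.presheaf.stalk (X.fromSpecStalk ζ p)) = (p.asIdeal.height : WithBot ℕ∞) := by
  rw [ringKrullDim_stalk_eq_coheight, coheight_fromSpecStalk, p.height_eq_orderHeight]

/-- The vanishing of the local equation at a generization. -/
theorem fromSpecStalk_mem_support_iff (I : X.IdealSheafData) (ζ : X) {U : X.affineOpens} (hU : ζ ∈ U.1) {a : Γ(X, U.1)}
    (ha : I.ideal U = Ideal.span {a}) (p : PrimeSpectrum (X.presheaf.stalk ζ)) :
    X.fromSpecStalk ζ p ∈ (I.support : Set X) ↔ X.presheaf.germ U.1 ζ hU a ∈ p.asIdeal := by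
  have hpU : X.fromSpecStalk ζ p ∈ U.1 := (fromSpecStalk_specializes ζ p).mem_open U.1.2 hU
  refine (Scheme.IdealSheafData.mem_support_iff_of_mem (U := U) hpU).trans ?_
  rw [ha, Scheme.zeroLocus_span, Scheme.mem_zeroLocus_iff]
  have key : X.fromSpecStalk ζ p ∈ X.basicOpen a ↔ X.presheaf.germ U.1 ζ hU a ∉ p.asIdeal := by
    rw [← U.2.fromSpecStalk_eq_fromSpecStalk hU]
    unfold IsAffineOpen.fromSpecStalk
    rw [Scheme.Hom.comp_apply]
    show Spec.map (X.presheaf.germ U.1 ζ hU) p ∈ U.2.fromSpec ⁻¹ᵁ X.basicOpen a ↔ _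
    rw [U.2.fromSpec_preimage_basicOpen]
    rfl
  constructor
  · intro h
    by_contra hn
    exact h a rfl (key.2 hn)
  · rintro h b rfl hmem
    exact key.1 hmem h

theorem nontrivial_equidim [IsLocallyNoetherian X] [IrreducibleSpace ↥X] (ζ : X) :
    EGA4.IsEquidim (X.presheaf.stalk ζ) :=
  (isEquidim_stalk_iff ζ).mpr fun η _ hmax => by
    rw [hmax _ ((genericPoint_spec ↥X).specializes (Set.mem_univ η)) |>.symm]
    exact cd_eq_codim_of_irreducible ζ

theorem germ_notMem_minimalPrimes (I : X.IdealSheafData) (hI : BlowUp.IsEffCartierIdeal I) (ζ : X) {U : X.affineOpens}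
    (hU : ζ ∈ U.1) {a : Γ(X, U.1)} (ha : I.ideal U = Ideal.span {a}) (P : Ideal (X.presheaf.stalk ζ))
    (hP : P ∈ minimalPrimes (X.presheaf.stalk ζ)) : X.presheaf.germ U.1 ζ hU a ∉ P := fun h => by
  have : P.IsPrime := hP.1.1
  exact notMem_support_of_generic hI _ (fun z hz => maximal_of_minimalPrime ζ (a := ⟨P, this⟩) hP z hz)
    ((fromSpecStalk_mem_support_iff I ζ hU ha ⟨P, this⟩).2 h)

theorem one_le_ringKrullDim_of_mem_support [IsLocallyNoetherian X] (I : X.IdealSheafData)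
    (hI : BlowUp.IsEffCartierIdeal I) {y : X} (hy : y ∈ (I.support : Set X)) :
    (1 : WithBot ℕ∞) ≤ ringKrullDim (X.presheaf.stalk y) := by
  rw [ringKrullDim_stalk]
  refine WithBot.coe_le_coe.mpr ?_
  have h : codim y ≠ 0 := fun h0 => notMem_support_of_generic hI y (codim_eq_zero_iff.mp h0) hy
  exact_mod_cast Nat.one_le_iff_ne_zero.mpr h

theorem ringKrullDim_eq_add_one [IsLocallyNoetherian X] [IrreducibleSpace ↥X] (I : X.IdealSheafData)
    (hI : BlowUp.IsEffCartierIdeal I) (ζ ξ : X) (hξ : ξ ⤳ ζ) (hξI : ξ ∉ (I.support : Set X))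
    (hζI : ζ ∈ (I.support : Set X))
    (hcat : CAlg.IsCatenary (X.presheaf.stalk ζ))
    (hmin : ∀ ζ', ξ ⤳ ζ' → ζ' ⤳ ζ → ζ' ∈ (I.support : Set X) → ζ' = ζ) :
    ringKrullDim (X.presheaf.stalk ζ) =
      (⨅ y : (I.support : Set X), ringKrullDim (X.presheaf.stalk y.1)) + ringKrullDim (X.presheaf.stalk ξ) := by
  obtain ⟨(p : PrimeSpectrum (X.presheaf.stalk ζ)), rfl⟩ := fromSpecStalk_range_of_specializes hξ
  obtain ⟨U, hU, a, -, ha⟩ := hI ζ
  let R : Type u := X.presheaf.stalk ζ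
  let t : R := X.presheaf.germ U.1 ζ hU a
  have hiff := fromSpecStalk_mem_support_iff I ζ hU ha
  have hc : IsEmbedding (fun q : PrimeSpectrum R => (X.fromSpecStalk ζ q : X)) := (X.fromSpecStalk ζ).isEmbedding
  let m : PrimeSpectrum R := IsLocalRing.closedPoint R
  have hm : X.fromSpecStalk ζ m = ζ := Scheme.fromSpecStalk_closedPoint
  have htm : t ∈ m.asIdeal := (hiff m).1 (hm.symm ▸ hζI)
  have htp : t ∉ p.asIdeal := fun h => hξI ((hiff p).2 h)
  have heq := nontrivial_equidim (X := X) ζ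
  have hstep : ∀ {r q : PrimeSpectrum R}, t ∉ r.asIdeal →
      q.asIdeal ∈ (r.asIdeal ⊔ Ideal.span {t}).minimalPrimes →
      ringKrullDim (R ⧸ r.asIdeal) = ringKrullDim (R ⧸ q.asIdeal) + 1 := fun hr hq =>
    FlatLoc6.ringKrullDim_quotient_covBy hcat (FlatLoc6.covBy_of_minimalPrimes hr hq)
  have hp1 : ringKrullDim (R ⧸ p.asIdeal) = 1 := by
    rw [hstep htp (q := m) ?_]
    · rw [ringKrullDim_eq_zero_of_isField
        ((Ideal.Quotient.maximal_ideal_iff_isField_quotient m.asIdeal).mp (IsLocalRing.maximalIdeal.isMaximal R)), zero_add]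
    · refine ⟨⟨m.2, sup_le (IsLocalRing.le_maximalIdeal p.2.ne_top)
        ((Ideal.span_singleton_le_iff_mem _).2 htm)⟩, fun Q hQ hle => ?_⟩
      have h1 : p ≤ ⟨Q, hQ.1⟩ := le_sup_left.trans hQ.2
      have h2 := hmin (X.fromSpecStalk ζ ⟨Q, hQ.1⟩)
        (hc.isInducing.specializes_iff.mpr ((PrimeSpectrum.le_iff_specializes p ⟨Q, hQ.1⟩).1 h1))
        (fromSpecStalk_specializes ζ _)
        ((hiff _).2 (hQ.2 (Ideal.mem_sup_right (Ideal.mem_span_singleton_self t))))
      have h3 : (⟨Q, hQ.1⟩ : PrimeSpectrum R) = m := hc.injective (h2.trans hm.symm)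
      exact (congrArg PrimeSpectrum.asIdeal h3).ge
  have hinf : (⨅ y : (I.support : Set X), ringKrullDim (X.presheaf.stalk y.1)) = 1 := by
    refine le_antisymm ?_ (le_iInf fun y => one_le_ringKrullDim_of_mem_support I hI y.2)
    obtain ⟨Q₀, hQ₀, -⟩ := Ideal.exists_minimalPrimes_le (I := (⊥ : Ideal R)) (J := m.asIdeal) bot_le
    haveI := hQ₀.1.1
    have ht0 : t ∉ Q₀ := germ_notMem_minimalPrimes I hI ζ hU ha Q₀ hQ₀
    obtain ⟨Q, hQ, -⟩ := Ideal.exists_minimalPrimes_le (I := Q₀ ⊔ Ideal.span {t}) (J := m.asIdeal)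
      (sup_le (IsLocalRing.le_maximalIdeal hQ₀.1.1.ne_top) ((Ideal.span_singleton_le_iff_mem _).2 htm))
    haveI := hQ.1.1
    have h1 := hstep (r := ⟨Q₀, hQ₀.1.1⟩) (q := ⟨Q, hQ.1.1⟩) ht0 hQ
    have h2 := FlatLoc6.height_add_ringKrullDim_quotient heq hcat Q
    have h3 := heq Q₀ hQ₀
    refine (iInf_le _ ⟨X.fromSpecStalk ζ ⟨Q, hQ.1.1⟩,
      (hiff _).2 (hQ.1.2 (Ideal.mem_sup_right (Ideal.mem_span_singleton_self t)))⟩).trans ?_
    rw [codim_fromSpecStalk]
    rw [← h2] at h3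
    replace h1 := h1.symm.trans h3
    have hfin : ringKrullDim (R ⧸ Q) < ⊤ := ringKrullDim_lt_top
    have hbot : ringKrullDim (R ⧸ Q) ≠ ⊥ := by
      haveI : Nontrivial (R ⧸ Q) := Ideal.Quotient.nontrivial_iff.mpr hQ.1.1.ne_top
      exact ringKrullDim_nonneg_of_nontrivial.trans_lt' (WithBot.bot_lt_coe 0) |>.ne'
    obtain ⟨d, hd⟩ := WithBot.ne_bot_iff_exists.1 hbot
    rw [← hd] at h1 hfin
    obtain ⟨d, rfl⟩ := ENat.ne_top_iff_exists.1 (WithBot.coe_lt_coe.mp hfin).ne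
    rw [add_comm] at h1
    refine le_of_eq ?_
    cases hh : Q.height using ENat.recTopCoe with
    | top => exact absurd hh (Ideal.height_ne_top hQ.1.1.ne_top)
    | coe n =>
      rw [hh] at h1
      have : 1 + d = n + d := by exact_mod_cast h1
      have hn : n = 1 := by omega
      subst hn; rfl
  rw [hinf, codim_fromSpecStalk, ← FlatLoc6.height_add_ringKrullDim_quotient heq hcat p.asIdeal, hp1, add_comm]

end Groth.Agent.BlowUpX
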