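import Groth.Agent.BlowUpX.SurfaceMult
import Groth.Agent.FlatX.RelCartier
import Mathlib.RingTheory.Ideal.Pure

/-!
Flat closed subschemes and closed subsets stable under generalization.
-/

universe u

open CategoryTheory AlgebraicGeometry PrimeSpectrum TopologicalSpace

namespace Groth.Agent.BlowUpX

variable {A : Type u} [CommRing A]

/-- Every element is a multiple of itself by an element of the ideal. -/
def SelfMul (I : Ideal A) : Prop := ∀ x ∈ I, ∃ y ∈ I, x = x * y

theorem SelfMul.pure {I : Ideal A} (h : SelfMul I) : I.Pure := by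
  refine Ideal.Pure.of_inf_eq_mul I fun J _ => le_antisymm (fun x hx => ?_) Ideal.mul_le_inf
  obtain ⟨y, hy, e⟩ := h x hx.1
  have h1 : y * x ∈ I * J := Ideal.mul_mem_mul hy hx.2
  rwa [mul_comm y x, ← e] at h1

theorem selfMul_of_pure {I : Ideal A} (h : I.Pure) : SelfMul I := fun _ hx =>
  haveI := h
  Ideal.exists_eq_mul_of_pure hx

theorem SelfMul.map {B : Type u} [CommRing B] (φ : A →+* B) {I : Ideal A} (h : SelfMul I) :
    SelfMul (I.map φ) := by
  intro x hx
  induction hx using Submodule.span_induction with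
  | mem x hx =>
    obtain ⟨a, ha, rfl⟩ := hx
    obtain ⟨y, hy, e⟩ := h a ha
    exact ⟨φ y, Ideal.mem_map_of_mem φ hy, by rw [← map_mul, ← e]⟩
  | zero => exact ⟨0, zero_mem _, by rw [mul_zero]⟩
  | add p q _ _ hp hq =>
    obtain ⟨y, hy, ey⟩ := hp
    obtain ⟨z, hz, ez⟩ := hq
    exact ⟨y + z - y * z, sub_mem (add_mem hy hz) (Ideal.mul_mem_right _ _ hy),
      by linear_combination (1 - z) * ey + (1 - y) * ez⟩
  | smul c p _ hp =>
    obtain ⟨y, hy, ey⟩ := hp
    exact ⟨y, hy, by rw [smul_eq_mul, mul_assoc, ← ey]⟩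

theorem SelfMul.eq {I I' : Ideal A} (h : SelfMul I) (h' : SelfMul I')
    (e : zeroLocus (I : Set A) = zeroLocus (I' : Set A)) : I = I' :=
  haveI := h.pure
  haveI := h'.pure
  Ideal.zeroLocus_inj_of_pure.mp e

theorem SelfMul.stableUnderGeneralization {I : Ideal A} (h : SelfMul I) :
    StableUnderGeneralization (zeroLocus (I : Set A)) := by
  intro p q hqp hp x hx
  obtain ⟨y, hy, e⟩ := h x hx
  have hle : q.asIdeal ≤ p.asIdeal := (PrimeSpectrum.le_iff_specializes q p).mpr hqp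
  refine (q.2.mem_or_mem (show x * (1 - y) ∈ q.asIdeal by rw [mul_sub, mul_one, ← e, sub_self]; exact zero_mem _)).resolve_right ?_
  intro h1
  exact p.2.ne_top (Ideal.eq_top_iff_one _ |>.mpr (by simpa using add_mem (hle h1) (hp hy)))

theorem exists_pow_mul_eq_zero {C : Set (PrimeSpectrum A)} (hC : IsClosed C) (hgen : StableUnderGeneralization C)
    {j : A} (hj : j ∈ vanishingIdeal C) : ∃ n, ∃ j' ∈ vanishingIdeal C, j ^ n * (1 + j') = 0 := by
  by_contra! hne
  let M : Submonoid A :=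
    { carrier := {z | ∃ n, ∃ j' ∈ vanishingIdeal C, j ^ n * (1 + j') = z}
      one_mem' := ⟨0, 0, zero_mem _, by simp⟩
      mul_mem' := by
        rintro _ _ ⟨n, a, ha, rfl⟩ ⟨m, b, hb, rfl⟩
        exact ⟨n + m, a + b + a * b, add_mem (add_mem ha hb) (Ideal.mul_mem_right _ _ ha), by ring⟩ }
  obtain ⟨q, hq, -, hdisj⟩ := Ideal.exists_le_prime_disjoint (⊥ : Ideal A) M
    (Set.disjoint_left.mpr fun z hz hzM => by
      obtain ⟨n, a, ha, e⟩ := hzM
      exact hne n a ha (e.trans (Ideal.mem_bot.mp hz)))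
  have hjq : j ∉ q := fun h => Set.disjoint_left.mp hdisj h ⟨1, 0, zero_mem _, by simp⟩
  have hne' : q ⊔ vanishingIdeal C ≠ ⊤ := by
    intro h
    obtain ⟨i, hi, a, ha, e⟩ := Submodule.mem_sup.mp ((Ideal.eq_top_iff_one _).mp h)
    exact Set.disjoint_left.mp hdisj hi ⟨0, -a, neg_mem ha, by linear_combination -e⟩
  obtain ⟨p, hp, hle⟩ := Ideal.exists_le_maximal _ hne'
  have hpC : (⟨p, hp.isPrime⟩ : PrimeSpectrum A) ∈ C := by
    rw [← hC.closure_eq, ← zeroLocus_vanishingIdeal_eq_closure]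
    exact le_sup_right.trans hle
  have hqC : (⟨q, hq⟩ : PrimeSpectrum A) ∈ C :=
    hgen ((PrimeSpectrum.le_iff_specializes ⟨q, hq⟩ ⟨p, hp.isPrime⟩).mp (le_sup_left.trans hle)) hpC
  exact hjq ((mem_vanishingIdeal _ _).mp hj ⟨q, hq⟩ hqC)

/-- The pure ideal cutting out `C`. -/
def pureOf (C : Set (PrimeSpectrum A)) : Ideal A where
  carrier := {x | ∃ j ∈ vanishingIdeal C, x * (1 + j) = 0}
  zero_mem' := ⟨0, zero_mem _, by simp⟩
  add_mem' := by
    rintro x y ⟨a, ha, ex⟩ ⟨b, hb, ey⟩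
    exact ⟨a + b + a * b, add_mem (add_mem ha hb) (Ideal.mul_mem_right _ _ ha),
      by linear_combination (1 + b) * ex + (1 + a) * ey⟩
  smul_mem' := by
    rintro c x ⟨a, ha, ex⟩
    exact ⟨a, ha, by rw [smul_eq_mul, mul_assoc, ex, mul_zero]⟩

theorem selfMul_pureOf {C : Set (PrimeSpectrum A)} (hC : IsClosed C) (hgen : StableUnderGeneralization C) :
    SelfMul (pureOf C) := by
  rintro x ⟨j, hj, ex⟩
  obtain ⟨n, j', hj', e⟩ := exists_pow_mul_eq_zero hC hgen (neg_mem hj)
  refine ⟨(-j) ^ n, ⟨j', hj', e⟩, ?_⟩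
  have h1 : x = x * (-j) := by linear_combination ex
  clear e
  induction n with
  | zero => simp
  | succ n ih => rw [pow_succ, ← mul_assoc, ← ih]; exact h1

theorem zeroLocus_pureOf {C : Set (PrimeSpectrum A)} (hC : IsClosed C) (hgen : StableUnderGeneralization C) :
    zeroLocus (pureOf C : Set A) = C := by
  refine Set.Subset.antisymm (fun p hp => ?_) fun p hp x hx => ?_
  · rw [← hC.closure_eq, ← zeroLocus_vanishingIdeal_eq_closure]
    intro j hj
    obtain ⟨n, j', hj', e⟩ := exists_pow_mul_eq_zero hC hgen hj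
    exact p.2.mem_of_pow_mem n (hp ⟨j', hj', e⟩)
  · obtain ⟨j, hj, e⟩ := hx
    refine (p.2.mem_or_mem (e ▸ zero_mem p.asIdeal : x * (1 + j) ∈ p.asIdeal)).resolve_right fun h1 => ?_
    exact p.2.ne_top (Ideal.eq_top_iff_one _ |>.mpr
      (by simpa using sub_mem h1 ((mem_vanishingIdeal _ _).mp hj p hp)))

variable {X : Scheme.{u}}

theorem fromSpec_preimage_support (I : X.IdealSheafData) (U : X.affineOpens) :
    U.2.fromSpec ⁻¹' (I.support : Set X) = zeroLocus (I.ideal U : Set Γ(X, U.1)) := by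
  ext p
  have h := mem_support_centre (I.ideal U) p
  rw [← BlowUpLib.comap_fromSpec, Scheme.IdealSheafData.support_comap] at h
  exact h

theorem appLE_id (U : X.Opens) : ((𝟙 X : X ⟶ X).appLE U U le_rfl).hom = RingHom.id _ := by
  rw [Scheme.Hom.appLE]
  erw [X.presheaf.map_id]
  rfl

theorem selfMul_of_flat {I : X.IdealSheafData} (h : Flat I.subschemeι) (U : X.affineOpens) :
    SelfMul (I.ideal U) := by
  have h1 := FlatX.flat_quotApp (𝟙 X) I (by rw [Category.comp_id]; exact h) U U le_rfl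
  have e : ((𝟙 X : X ⟶ X).appLE U.1 U.1 le_rfl).hom = RingHom.id _ := appLE_id U.1
  change ((Ideal.Quotient.mk (I.ideal U)).comp _).Flat at h1
  rw [e, RingHom.comp_id] at h1
  exact selfMul_of_pure (RingHom.flat_algebraMap_iff.mp h1)

theorem flat_of_selfMul {I : X.IdealSheafData} (h : ∀ U : X.affineOpens, SelfMul (I.ideal U)) :
    Flat I.subschemeι := by
  rw [← Category.comp_id I.subschemeι]
  refine FlatX.flat_subscheme_of_charts (𝟙 X) I fun x => ?_
  obtain ⟨W, hW, hxW, -⟩ := exists_isAffineOpen_mem_and_subset (U := (⊤ : X.Opens)) (Set.mem_univ x)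
  refine ⟨⟨W, hW⟩, ⟨W, hW⟩, le_rfl, hxW, ?_⟩
  have e : ((𝟙 X : X ⟶ X).appLE W W le_rfl).hom = RingHom.id _ := appLE_id W
  show ((Ideal.Quotient.mk (I.ideal ⟨W, hW⟩)).comp _).Flat
  rw [e, RingHom.comp_id]
  exact RingHom.flat_algebraMap_iff.mpr (h ⟨W, hW⟩).pure

/-- The flat closed subscheme on a closed subset stable under generalization. -/
noncomputable def pureSheaf (Z : Closeds X) (hZ : StableUnderGeneralization (Z : Set X)) : X.IdealSheafData where
  ideal U := pureOf (U.2.fromSpec ⁻¹' (Z : Set X))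
  map_ideal_basicOpen U f := by
    have hc : ∀ V : X.affineOpens, IsClosed (V.2.fromSpec ⁻¹' (Z : Set X)) := fun V =>
      Z.isClosed.preimage V.2.fromSpec.continuous
    have hg : ∀ V : X.affineOpens, StableUnderGeneralization (V.2.fromSpec ⁻¹' (Z : Set X)) := fun V p q h hp =>
      hZ (h.map V.2.fromSpec.continuous) hp
    refine ((selfMul_pureOf (hc U) (hg U)).map _).eq
      (selfMul_pureOf (hc (X.affineBasicOpen f)) (hg (X.affineBasicOpen f))) ?_
    refine Eq.trans ?_ (zeroLocus_pureOf (hc (X.affineBasicOpen f)) (hg (X.affineBasicOpen f))).symm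
    rw [Ideal.map, zeroLocus_span, ← preimage_comap_zeroLocus, zeroLocus_pureOf (hc U) (hg U)]
    ext p
    refine iff_of_eq (congrArg (fun x : X => x ∈ (Z : Set X)) ?_)
    exact congr($(IsAffineOpen.map_fromSpec U.2 (U.2.basicOpen f) (homOfLE (X.basicOpen_le f)).op) p)

theorem support_pureSheaf (Z : Closeds X) (hZ : StableUnderGeneralization (Z : Set X)) :
    (pureSheaf Z hZ).support = Z := by
  refine SetLike.ext fun x => ?_
  obtain ⟨W, hW, hxW, -⟩ := exists_isAffineOpen_mem_and_subset (U := (⊤ : X.Opens)) (Set.mem_univ x)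
  obtain ⟨p, rfl⟩ : x ∈ Set.range hW.fromSpec := by rw [hW.range_fromSpec]; exact hxW
  have h1 := Set.ext_iff.mp (fromSpec_preimage_support (pureSheaf Z hZ) ⟨W, hW⟩) p
  have h2 := Set.ext_iff.mp (zeroLocus_pureOf (Z.isClosed.preimage hW.fromSpec.continuous)
    (fun p q h hp => hZ (h.map hW.fromSpec.continuous) hp)) p
  exact h1.trans h2

theorem flat_closed_subscheme_bijOn (X : Scheme.{u}) :
    Set.BijOn (fun I : X.IdealSheafData => I.support) {I : X.IdealSheafData | Flat I.subschemeι}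
        {Z : Closeds ↑X | StableUnderGeneralization (Z : Set ↑X)} := by
  refine ⟨fun I hI => ?_, fun I hI J hJ e => ?_, fun Z hZ => ?_⟩
  · intro x y hyx hx
    obtain ⟨W, hW, hxW, -⟩ := exists_isAffineOpen_mem_and_subset (U := (⊤ : X.Opens)) (Set.mem_univ x)
    have hyW : y ∈ W := hyx.mem_open W.isOpen hxW
    obtain ⟨p, rfl⟩ : x ∈ Set.range hW.fromSpec := by rw [hW.range_fromSpec]; exact hxW
    obtain ⟨q, rfl⟩ : y ∈ Set.range hW.fromSpec := by rw [hW.range_fromSpec]; exact hyW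
    exact (Set.ext_iff.mp (fromSpec_preimage_support I ⟨W, hW⟩) q).mpr
      ((selfMul_of_flat hI ⟨W, hW⟩).stableUnderGeneralization
        (hW.fromSpec.isOpenEmbedding.isInducing.specializes_iff.mp hyx)
        ((Set.ext_iff.mp (fromSpec_preimage_support I ⟨W, hW⟩) p).mp hx))
  · refine Scheme.IdealSheafData.ext (funext fun U => (selfMul_of_flat hI U).eq (selfMul_of_flat hJ U) ?_)
    rw [← fromSpec_preimage_support, ← fromSpec_preimage_support, show I.support = J.support from e]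
  · refine ⟨pureSheaf Z hZ, flat_of_selfMul fun U => ?_, support_pureSheaf Z hZ⟩
    exact selfMul_pureOf (Z.isClosed.preimage U.2.fromSpec.continuous)
      fun p q h hp => hZ (h.map U.2.fromSpec.continuous) hp

theorem exists_factor_flat (I : X.IdealSheafData) (hI : Flat I.subschemeι) {Y : Scheme.{u}} (g : Y ⟶ X)
    (hg : Set.range g.base ⊆ (I.support : Set X)) : ∃ g' : Y ⟶ I.subscheme, g' ≫ I.subschemeι = g := by
  have hle : I ≤ g.ker := by
    refine Scheme.IdealSheafData.le_ofIdeals_iff.mpr fun U x hx => ?_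
    obtain ⟨y, hy, e⟩ := selfMul_of_flat hI U x hx
    rw [RingHom.mem_ker]
    refine TopCat.Presheaf.section_ext Y.sheaf (g ⁻¹ᵁ U.1) _ 0 fun z hz => ?_
    have hny : z ∉ Y.basicOpen ((g.app U.1).hom y) := by
      rw [← g.preimage_basicOpen]
      intro hz'
      obtain ⟨hsupp, -⟩ : g z ∈ X.zeroLocus (U := U.1) (I.ideal U) ∩ U.1 :=
        I.coe_support_inter U ▸ ⟨hg ⟨z, rfl⟩, hz⟩
      exact (Scheme.mem_zeroLocus_iff _ _ _).mp hsupp y hy hz'
    rw [Scheme.mem_basicOpen _ _ _ hz] at hny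
    have hu : IsUnit (Y.presheaf.germ _ z hz (1 - (g.app U.1).hom y)) := by
      rw [map_sub, map_one]
      exact (IsLocalRing.isUnit_or_isUnit_of_add_one
        (add_sub_cancel (Y.presheaf.germ _ z hz ((g.app U.1).hom y)) 1)).resolve_left hny
    have h0 : Y.presheaf.germ _ z hz ((g.app U.1).hom x) * Y.presheaf.germ _ z hz (1 - (g.app U.1).hom y) = 0 := by
      rw [← map_mul, mul_sub, mul_one, ← map_mul (g.app U.1).hom, ← e, sub_self, map_zero]
    exact ((hu.mul_left_eq_zero).mp h0).trans (map_zero (Y.presheaf.germ _ z hz).hom).symm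
  exact ⟨IsClosedImmersion.lift I.subschemeι g (by rw [Scheme.IdealSheafData.ker_subschemeι]; exact hle),
    IsClosedImmersion.lift_fac _ _ _⟩

end Groth.Agent.BlowUpX
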