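import Groth.Agent.BlowUpX.Separate2
import Groth.Agent.Graft.Extend

/-!
# Separating closures of preimages by an admissible blow-up
-/

universe u

open CategoryTheory CategoryTheory.Limits AlgebraicGeometry TopologicalSpace

namespace Groth.Agent.BlowUpX

variable {X₁ X₂ : Scheme.{u}}

theorem exists_fg_le_top_on [CompactSpace X₁] [QuasiSeparatedSpace X₁] (I : X₁.IdealSheafData) (W : X₁.Opens)
    (hW : IsCompact (W : Set X₁)) (h : Disjoint (I.support : Set X₁) W) :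
    ∃ K : X₁.IdealSheafData, K ≤ I ∧ (∀ U, (K.ideal U).FG) ∧ Disjoint (K.support : Set X₁) W := by
  have htop : I.comap W.ι = ⊤ := comap_eq_top I W.ι fun y hy => Set.disjoint_left.mp h hy y.2
  obtain ⟨K, hK, hfg, hKW⟩ := Graft.exists_fg_extend I W hW ⊤ (fun V => by
    rw [Scheme.IdealSheafData.ideal_top, Pi.top_apply]; exact ⟨{1}, by simp⟩) htop.ge
  refine ⟨K, hK, hfg, Set.disjoint_left.mpr fun x hx hxW => ?_⟩
  have h1 : (⟨x, hxW⟩ : W) ∈ ((K.comap W.ι).support : Set W) := by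
    rw [Scheme.IdealSheafData.support_comap]; exact hx
  rw [hKW, Scheme.IdealSheafData.support_top] at h1
  exact h1

theorem exists_separating [CompactSpace X₁] [QuasiSeparatedSpace X₁] [QuasiSeparatedSpace X₂]
    (q : X₂ ⟶ X₁) [QuasiCompact q] (V₁ : X₁.Opens) (hV₁ : IsCompact (V₁ : Set X₁)) (U : X₂.Opens)
    (hU : U ≤ q ⁻¹ᵁ V₁) (Z₁ : Set X₁) (hZ₁ : IsClosed Z₁) (hZ₁c : IsCompact Z₁ᶜ)
    (Z₂ : Set X₂) (hZ₂ : IsClosed Z₂) (hZ₂c : IsCompact Z₂ᶜ)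
    (hYZ : (fun x => q x) ⁻¹' (Z₁ ∩ (V₁ : Set X₁)) ⊆ Z₂) :
    ∃ E : X₁.IdealSheafData, BlowUp.IsFiniteTypeIdeal E ∧ (E.support : Set X₁) ⊆ Z₁ \ (V₁ : Set X₁) ∧
      ∀ (X₁' : Scheme.{u}) (c : X₁' ⟶ X₁), BlowUp.IsBlowUp c E →
        (fun z => (pullback.snd q c) z) ⁻¹' closure ((fun x => c x) ⁻¹' (Z₁ ∩ (V₁ : Set X₁))) ∩
          closure ((fun z => (pullback.fst q c) z) ⁻¹' (U : Set X₂)) ⊆
            (fun z => (pullback.fst q c) z) ⁻¹' Z₂ := by
  let C₁ : X₁.Opens := ⟨Z₁ᶜ, hZ₁.isOpen_compl⟩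
  let O : X₂.Opens := ⟨Z₂ᶜ, hZ₂.isOpen_compl⟩
  obtain ⟨I, hIle, hIfg, hIdisj⟩ := exists_fg_le_top_on (Scheme.IdealSheafData.vanishingIdeal ⟨Z₁, hZ₁⟩) C₁ hZ₁c
    (by
      rw [Set.disjoint_left]
      intro x hx hxC
      have h1 : ((Scheme.IdealSheafData.vanishingIdeal (⟨Z₁, hZ₁⟩ : Closeds X₁)).support : Set X₁) = Z₁ := by
        simp
      exact hxC (h1 ▸ hx))
  have hZI : Z₁ ⊆ (I.support : Set X₁) :=
    (Scheme.IdealSheafData.le_support_iff_le_vanishingIdeal.mpr hIle : (⟨Z₁, hZ₁⟩ : Closeds X₁) ≤ I.support)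
  have hIZ : (I.support : Set X₁) ⊆ Z₁ := fun x hx => by_contra fun hxZ =>
    Set.disjoint_left.mp hIdisj hx hxZ
  haveI : CompactSpace O.toScheme := isCompact_iff_compactSpace.mp hZ₂c
  haveI : QuasiCompact O.ι := quasiCompact_of_compactSpace O.ι
  let p : O.toScheme ⟶ X₁ := O.ι ≫ q
  let X₀ : X₁.Opens := V₁ ⊔ C₁
  have hp : ∀ z : O, p z ∈ X₀ → p z ∉ Z₁ := by
    intro z hz hzZ
    rcases Opens.mem_sup.mp hz with h | h
    · exact z.2 (hYZ ⟨hzZ, h⟩)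
    · exact h hzZ
  have hA : Disjoint (((I.comap p).map p).support : Set X₁) X₀ := by
    rw [Scheme.IdealSheafData.support_map]
    refine Disjoint.closure_left ?_ X₀.2
    rw [Set.disjoint_left]
    rintro _ ⟨z, hz, rfl⟩ hz0
    exact hp z hz0 (hIZ (mem_support_comap.mp hz))
  obtain ⟨K, hKle, hKfg, hKdisj⟩ := exists_fg_le_top_on ((I.comap p).map p) X₀
    (by rw [Opens.coe_sup]; exact hV₁.union hZ₁c) hA
  have hdisj : Disjoint ((K ⊔ I).support : Set X₁) X₀ :=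
    hKdisj.mono_left (Scheme.IdealSheafData.support_antitone le_sup_left)
  refine ⟨K ⊔ I, MorLib.IdealFG.isFG_sup hKfg hIfg, fun x hx => ?_, fun X₁' c hc => ?_⟩
  · refine ⟨hIZ (Scheme.IdealSheafData.support_antitone (le_sup_right : I ≤ K ⊔ I) hx), fun hxV => ?_⟩
    exact Set.disjoint_left.mp hdisj hx (Opens.mem_sup.mpr (.inl hxV))
  have h₃ : (K ⊔ I).comap p ≤ I.comap p ⊔ (⊥ : O.toScheme.IdealSheafData) := by
    rw [sup_bot_eq, ← Scheme.IdealSheafData.le_map_iff_comap_le]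
    exact sup_le hKle (Scheme.IdealSheafData.le_map_comap I p)
  let pr := pullback.fst q c
  let Z' := (pr ⁻¹ᵁ O)
  have hmain := inter_closure_eq_empty_aux p X₀ Z₁ I hZI (Set.univ : Set O.toScheme) ⊥
    (by simp) (K ⊔ I) hdisj le_sup_right h₃ c hc.1 (pr ∣_ O) (Z'.ι ≫ pullback.snd q c)
    (by rw [← Category.assoc, morphismRestrict_ι, Category.assoc, pullback.condition, Category.assoc])
  rintro z ⟨hz1, hz2⟩
  by_contra hzO
  let z' : Z' := ⟨z, hzO⟩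
  refine (Set.eq_empty_iff_forall_notMem.mp hmain) z' ⟨?_, ?_⟩
  · refine closure_mono (Set.preimage_mono ?_) hz1
    exact Set.inter_subset_inter_right _ fun x hx => Opens.mem_sup.mpr (.inl hx)
  · have h1 := (Z'.2.isOpenEmbedding_subtypeVal.isOpenMap.preimage_closure_eq_closure_preimage
      continuous_subtype_val ((fun w => pr w) ⁻¹' (U : Set X₂))).le (show z' ∈ _ from hz2)
    refine closure_mono ?_ h1
    intro w hw
    refine ⟨trivial, ?_⟩
    show q (O.ι ((pr ∣_ O) w)) ∈ X₀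
    rw [show O.ι ((pr ∣_ O) w) = pr (Z'.ι w) by rw [← Scheme.Hom.comp_apply, morphismRestrict_ι, Scheme.Hom.comp_apply]]
    exact Opens.mem_sup.mpr (.inl (hU hw))

end Groth.Agent.BlowUpX
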