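import Groth.Agent.BlowUpX.StrictMeet

/-!
# Separating closures by blowing up
-/

universe u

open CategoryTheory CategoryTheory.Limits AlgebraicGeometry TopologicalSpace

namespace Groth.Agent.BlowUpX

variable {X Y Z X' : Scheme.{u}}

theorem notMem_basicOpen_of_mem_support {I : X.IdealSheafData} {W : X.affineOpens} {x : X}
    (hx : x ∈ (I.support : Set X)) (hxW : x ∈ W.1) {a : Γ(X, W.1)} (ha : a ∈ I.ideal W) :
    x ∉ X.basicOpen a :=
  (Scheme.mem_zeroLocus_iff _ _ _).mp ((Scheme.IdealSheafData.mem_support_iff_of_mem (U := W) hxW).mp hx) a ha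

theorem mem_support_of_notMem_basicOpen {I : X.IdealSheafData} {W : X.affineOpens} {x : X}
    (hxW : x ∈ W.1) {a : Γ(X, W.1)} (hI : I.ideal W = Ideal.span {a}) (ha : x ∉ X.basicOpen a) :
    x ∈ (I.support : Set X) := by
  refine (Scheme.IdealSheafData.mem_support_iff_of_mem (U := W) hxW).mpr ?_
  rw [hI, Scheme.zeroLocus_span, Scheme.mem_zeroLocus_iff]
  rintro b rfl
  exact ha

theorem mem_support_comap {I : X.IdealSheafData} {g : Y ⟶ X} {y : Y} :
    y ∈ ((I.comap g).support : Set Y) ↔ g y ∈ (I.support : Set X) := by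
  rw [Scheme.IdealSheafData.support_comap]
  rfl

theorem disjoint_closure_image_aux {Z' Y'' : Scheme.{u}} (p : Z ⟶ X) (U V : X.Opens) (f : Y ⟶ Z)
    (hY : Set.range (fun y => p (f y)) ⊆ (U : Set X)) (I₁ I₂ : X.IdealSheafData)
    (h₁ : (V : Set X) \ (U : Set X) ⊆ (I₁.support : Set X)) (h₁' : Disjoint (I₁.support : Set X) (U : Set X))
    (h₂ : (I₂.support : Set X) ⊆ (I₁.support : Set X) \ (V : Set X))
    (hincl : I₂.comap p ≤ (I₁ * I₁).comap p ⊔ f.ker) (q : X' ⟶ X) (hq : BlowUp.IsBlowUp q (I₁ ⊔ I₂))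
    (h : Z' ⟶ Z) (g : Z' ⟶ X') (hgq : h ≫ p = g ≫ q) (f' : Y'' ⟶ Z') (a : Y'' ⟶ Y) (haf : a ≫ f = f' ≫ h) :
    Disjoint (closure (Set.range (fun y => f' y)))
      ((fun z => g z) ⁻¹' closure ((fun x' => q x') ⁻¹' ((V : Set X) \ (U : Set X)))) := by
  rw [Set.disjoint_left]
  intro z hz hzV
  obtain ⟨W, hxW, e, he0, he⟩ := hq.1 (g z)
  set E := (I₁ ⊔ I₂).comap q
  have hEsup : E = I₁.comap q ⊔ I₂.comap q := (Scheme.IdealSheafData.map_gc q).l_sup
  let P : Ideal Γ(X', W.1) := (W.2.primeIdealOf ⟨g z, hxW⟩).asIdeal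
  have hPb : ∀ r : Γ(X', W.1), r ∈ P ↔ g z ∉ X'.basicOpen r := by
    intro r
    have h3 := W.2.fromSpec_primeIdealOf ⟨g z, hxW⟩
    have h1 : W.2.primeIdealOf ⟨g z, hxW⟩ ∈ W.2.fromSpec ⁻¹ᵁ X'.basicOpen r ↔ r ∉ P := by
      rw [W.2.fromSpec_preimage_basicOpen]; rfl
    have h2 : W.2.primeIdealOf ⟨g z, hxW⟩ ∈ W.2.fromSpec ⁻¹ᵁ X'.basicOpen r ↔
        W.2.fromSpec (W.2.primeIdealOf ⟨g z, hxW⟩) ∈ X'.basicOpen r := Iff.rfl
    rw [h2, h3] at h1
    rw [h1, not_not]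
  have hR : ∀ r : Γ(X', W.1), r * e ∈ (I₁.comap q).ideal W → r ∈ P := by
    intro r hr
    rw [hPb]
    intro hmem
    obtain ⟨w, hwr, hw⟩ := mem_closure_iff.mp hzV _ (X'.basicOpen r).isOpen hmem
    have hwW : w ∈ W.1 := X'.basicOpen_le r hwr
    have hw1 := notMem_basicOpen_of_mem_support (mem_support_comap.mpr (h₁ hw)) hwW hr
    rw [Scheme.basicOpen_mul] at hw1
    have hwe : w ∉ X'.basicOpen e := fun hh => hw1 ⟨hwr, hh⟩
    have hwE := mem_support_of_notMem_basicOpen hwW he hwe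
    have hw2 : q w ∈ (I₂.support : Set X) := by
      have h0 := (Scheme.IdealSheafData.support_antitone (le_sup_right : I₂ ≤ I₁ ⊔ I₂))
      exact h0 (mem_support_comap.mp hwE)
    exact (h₂ hw2).2 hw.1
  have hmem : e ∈ (I₁.comap q).ideal W ⊔ (I₂.comap q).ideal W := by
    rw [← Pi.sup_apply, ← Scheme.IdealSheafData.ideal_sup, ← hEsup, he]
    exact Ideal.mem_span_singleton_self e
  obtain ⟨a₁, ha₁, a₂, ha₂, hsum⟩ := Submodule.mem_sup.mp hmem
  have hle : ∀ {I : X'.IdealSheafData}, I ≤ E → ∀ a ∈ I.ideal W, ∃ r, r * e = a := fun hI a ha =>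
    Ideal.mem_span_singleton'.mp (he ▸ hI W ha)
  obtain ⟨r₁, rfl⟩ := hle (hEsup ▸ le_sup_left) a₁ ha₁
  obtain ⟨r₂, rfl⟩ := hle (hEsup ▸ le_sup_right) a₂ ha₂
  have h12 : r₁ + r₂ = 1 := by
    refine sub_eq_zero.mp (mem_nonZeroDivisors_iff_right.mp he0 _ ?_)
    rw [sub_mul, add_mul, hsum, one_mul, sub_self]
  have hr₂ : g z ∈ X'.basicOpen r₂ := by
    by_contra hc
    exact (W.2.primeIdealOf ⟨g z, hxW⟩).2.ne_top
      ((Ideal.eq_top_iff_one _).mpr (h12 ▸ P.add_mem (hR r₁ ha₁) ((hPb r₂).mpr hc)))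
  obtain ⟨T, hT, hzT, hTD⟩ := exists_isAffineOpen_mem_and_subset (U := g ⁻¹ᵁ X'.basicOpen r₂) hr₂
  have hTW : T ≤ g ⁻¹ᵁ W.1 := fun t ht => X'.basicOpen_le r₂ (hTD ht)
  set φ := (g.appLE W.1 T hTW).hom with hφ
  have hu : IsUnit (φ r₂) := by
    have hTD' : T ≤ g ⁻¹ᵁ X'.basicOpen r₂ := hTD
    rw [hφ, ← g.map_appLE hTD' (homOfLE (X'.basicOpen_le r₂)).op, CommRingCat.hom_comp, RingHom.comp_apply]
    exact IsUnit.map (g.appLE (X'.basicOpen r₂) T hTD').hom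
      (RingedSpace.isUnit_res_basicOpen X'.toRingedSpace r₂)
  have hincl' : (I₂.comap q).comap g ≤ (I₁.comap q * I₁.comap q).comap g ⊔ f'.ker := by
    have h0 := Scheme.IdealSheafData.comap_mono h hincl
    simp only [Scheme.IdealSheafData.comap_sup] at h0
    rw [← Scheme.IdealSheafData.comap_comp, ← Scheme.IdealSheafData.comap_comp] at h0
    rw [← ModPairLib.ideal_comap_mul, ← Scheme.IdealSheafData.comap_comp,
      ← Scheme.IdealSheafData.comap_comp, ← hgq]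
    exact h0.trans (sup_le_sup le_rfl
      (comap_le_ker (k := f') (b := h) (b' := a) le_rfl haf.symm))
  have he2 : φ e ∈ ((I₂.comap q).comap g).ideal ⟨T, hT⟩ := by
    rw [ModPairLib.ideal_comap _ g W ⟨T, hT⟩ hTW]
    have h4 := Ideal.mem_map_of_mem φ ha₂
    rw [map_mul] at h4
    exact (Ideal.unit_mul_mem_iff_mem _ hu).mp h4
  have h5 := hincl' ⟨T, hT⟩ he2
  rw [Scheme.IdealSheafData.ideal_sup, Pi.sup_apply, ModPairLib.ideal_comap _ g W ⟨T, hT⟩ hTW] at h5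
  obtain ⟨b, hb, k, hk, hbk⟩ := Submodule.mem_sup.mp h5
  have hb' : b ∈ (P * Ideal.span {e * e}).map φ := by
    refine Ideal.map_mono ?_ hb
    rw [Scheme.IdealSheafData.ideal_mul, Pi.mul_apply, Ideal.mul_le]
    intro s hs t ht
    obtain ⟨rs, rfl⟩ := hle (hEsup ▸ le_sup_left) s hs
    obtain ⟨rt, rfl⟩ := hle (hEsup ▸ le_sup_left) t ht
    rw [mul_mul_mul_comm]
    exact Ideal.mul_mem_mul (P.mul_mem_right _ (hR rs hs)) (Ideal.mem_span_singleton_self _)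
  rw [Ideal.map_mul, Ideal.map_span, Set.image_singleton, map_mul] at hb'
  obtain ⟨r, hr, rfl⟩ := Ideal.mem_mul_span_singleton.mp hb'
  have hkey : φ e * (1 - r * φ e) = k := by linear_combination (-1 : Γ(Z', T)) * hbk
  have hzr : z ∉ (Z').basicOpen r := by
    intro hc
    let Q : Ideal Γ(Z', T) := (hT.primeIdealOf ⟨z, hzT⟩).asIdeal
    have hPQ : P.map φ ≤ Q := by
      rw [Ideal.map_le_iff_le_comap]
      intro a ha
      have h6 := congrArg PrimeSpectrum.asIdeal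
        (IsAffineOpen.comap_primeIdealOf_appLE (f := g) W.1 W.2 T hT hTW hzT)
      exact h6.ge ha
    have h7 : r ∈ Q := hPQ hr
    have h8 : hT.primeIdealOf ⟨z, hzT⟩ ∈ hT.fromSpec ⁻¹ᵁ (Z').basicOpen r := by
      show hT.fromSpec (hT.primeIdealOf ⟨z, hzT⟩) ∈ (Z').basicOpen r
      rw [hT.fromSpec_primeIdealOf ⟨z, hzT⟩]
      exact hc
    rw [hT.fromSpec_preimage_basicOpen] at h8
    exact h8 h7
  have hzt : z ∈ (Z').basicOpen (1 - r * φ e) := by
    rw [Scheme.mem_basicOpen _ _ _ hzT, map_sub, map_one, map_mul]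
    refine IsLocalRing.isUnit_one_sub_self_of_mem_nonunits _ ?_
    rw [mem_nonunits_iff, IsUnit.mul_iff]
    exact fun hh => hzr ((Scheme.mem_basicOpen _ _ _ hzT).mpr hh.1)
  obtain ⟨_, hft, y, rfl⟩ := mem_closure_iff.mp hz _ ((Z').basicOpen _).isOpen hzt
  have hyT : f' y ∈ T := (Z').basicOpen_le _ hft
  have h9 := notMem_basicOpen_of_mem_support (f'.range_subset_ker_support ⟨y, rfl⟩) hyT hk
  rw [← hkey, Scheme.basicOpen_mul] at h9
  have h10 : g (f' y) ∉ X'.basicOpen e := by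
    intro hh
    refine h9 ⟨?_, hft⟩
    rw [hφ, Scheme.Hom.appLE, CommRingCat.hom_comp, RingHom.comp_apply, Scheme.basicOpen_res,
      ← Scheme.preimage_basicOpen]
    exact ⟨hyT, hh⟩
  have h11 := mem_support_comap.mp (mem_support_of_notMem_basicOpen (hTW hyT) he h10)
  have h12' : q (g (f' y)) ∈ (I₁.support : Set X) :=
    (Scheme.IdealSheafData.support_antitone (le_sup_left : I₁ ≤ I₁ ⊔ I₂)) h11
  refine Set.disjoint_left.mp h₁' h12' (hY ⟨a y, ?_⟩)
  show p (f (a y)) = q (g (f' y))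
  rw [← Scheme.Hom.comp_apply _ f, haf, Scheme.Hom.comp_apply, ← Scheme.Hom.comp_apply h,
    hgq, Scheme.Hom.comp_apply]

theorem disjoint_closure_image (p : Z ⟶ X) (U V : X.Opens) (f : Y ⟶ Z)
    (hY : Set.range (fun y => p (f y)) ⊆ (U : Set X)) (I₁ I₂ : X.IdealSheafData)
    (h₁ : (V : Set X) \ (U : Set X) ⊆ (I₁.support : Set X)) (h₁' : Disjoint (I₁.support : Set X) (U : Set X))
    (h₂ : (I₂.support : Set X) ⊆ (I₁.support : Set X) \ (V : Set X))
    (hincl : I₂.comap p ≤ (I₁ * I₁).comap p ⊔ f.ker) (q : X' ⟶ X) (hq : BlowUp.IsBlowUp q (I₁ ⊔ I₂)) :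
    Disjoint (closure (Set.range (fun y => (pullback.snd f (pullback.fst p q)) y)))
      ((fun z => (pullback.snd p q) z) ⁻¹' closure ((fun x' => q x') ⁻¹' ((V : Set X) \ (U : Set X)))) :=
  disjoint_closure_image_aux p U V f hY I₁ I₂ h₁ h₁' h₂ hincl q hq _ _ pullback.condition _ _ pullback.condition

end Groth.Agent.BlowUpX
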