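import Groth.Agent.BlowUpX.Separate

/-!
# Separating the closures of two closed sets by blowing up
-/

universe u

open CategoryTheory CategoryTheory.Limits AlgebraicGeometry TopologicalSpace

namespace Groth.Agent.BlowUpX

variable {X Z X' Z' : Scheme.{u}}

theorem inter_closure_eq_empty_aux (p : Z ⟶ X) (X₀ : X.Opens) (F : Set X) (I : X.IdealSheafData)
    (hF : F ⊆ (I.support : Set X)) (G : Set Z) (J : Z.IdealSheafData) (hG : G ⊆ (J.support : Set Z))
    (a : X.IdealSheafData) (h₁ : Disjoint (a.support : Set X) (X₀ : Set X)) (h₂ : I ≤ a)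
    (h₃ : a.comap p ≤ I.comap p ⊔ J) (π : X' ⟶ X) (hπ : BlowUp.IsEffCartierIdeal (a.comap π))
    (h : Z' ⟶ Z) (g : Z' ⟶ X') (hgq : h ≫ p = g ≫ π) :
    (fun z => g z) ⁻¹' closure ((fun x => π x) ⁻¹' (F ∩ (X₀ : Set X))) ∩
      closure ((fun z => h z) ⁻¹' (G ∩ (p ⁻¹ᵁ X₀ : Set Z))) = ∅ := by
  rw [Set.eq_empty_iff_forall_notMem]
  rintro z ⟨hzV, hz⟩
  obtain ⟨W, hxW, e, he0, he⟩ := hπ (g z)
  let P : Ideal Γ(X', W.1) := (W.2.primeIdealOf ⟨g z, hxW⟩).asIdeal
  have hR : ∀ r : Γ(X', W.1), r * e ∈ (I.comap π).ideal W → r ∈ P := by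
    intro r hr
    by_contra hmem
    have h8 : W.2.primeIdealOf ⟨g z, hxW⟩ ∈ W.2.fromSpec ⁻¹ᵁ X'.basicOpen r := by
      rw [W.2.fromSpec_preimage_basicOpen]; exact hmem
    have h9 : W.2.fromSpec (W.2.primeIdealOf ⟨g z, hxW⟩) ∈ X'.basicOpen r := h8
    rw [W.2.fromSpec_primeIdealOf ⟨g z, hxW⟩] at h9
    obtain ⟨w, hwr, hw⟩ := mem_closure_iff.mp hzV _ (X'.basicOpen r).isOpen h9
    have hwW : w ∈ W.1 := X'.basicOpen_le r hwr
    have hw1 := notMem_basicOpen_of_mem_support (mem_support_comap.mpr (hF hw.1)) hwW hr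
    rw [Scheme.basicOpen_mul] at hw1
    have hwe : w ∉ X'.basicOpen e := fun hh => hw1 ⟨hwr, hh⟩
    exact Set.disjoint_left.mp h₁ (mem_support_comap.mp (mem_support_of_notMem_basicOpen hwW he hwe)) hw.2
  obtain ⟨T, hT, hzT, hTW⟩ := exists_isAffineOpen_mem_and_subset (U := g ⁻¹ᵁ W.1) hxW
  have hTW' : T ≤ g ⁻¹ᵁ W.1 := hTW
  set φ := (g.appLE W.1 T hTW').hom with hφ
  have he2 : φ e ∈ ((a.comap π).comap g).ideal ⟨T, hT⟩ := by
    rw [ModPairLib.ideal_comap _ g W ⟨T, hT⟩ hTW', he]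
    exact Ideal.mem_map_of_mem φ (Ideal.mem_span_singleton_self e)
  have hincl : (a.comap π).comap g ≤ (I.comap π).comap g ⊔ J.comap h := by
    have h0 := Scheme.IdealSheafData.comap_mono h h₃
    simp only [Scheme.IdealSheafData.comap_sup] at h0
    rw [← Scheme.IdealSheafData.comap_comp, ← Scheme.IdealSheafData.comap_comp] at h0
    rw [← Scheme.IdealSheafData.comap_comp, ← Scheme.IdealSheafData.comap_comp, ← hgq]
    exact h0
  have h5 := hincl ⟨T, hT⟩ he2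
  rw [Scheme.IdealSheafData.ideal_sup, Pi.sup_apply, ModPairLib.ideal_comap _ g W ⟨T, hT⟩ hTW'] at h5
  obtain ⟨b, hb, k, hk, hbk⟩ := Submodule.mem_sup.mp h5
  have hb' : b ∈ (P * Ideal.span {e}).map φ := by
    refine Ideal.map_mono ?_ hb
    intro s hs
    obtain ⟨rs, rfl⟩ := Ideal.mem_span_singleton'.mp (he ▸ Scheme.IdealSheafData.comap_mono π h₂ W hs)
    exact Ideal.mul_mem_mul (hR rs hs) (Ideal.mem_span_singleton_self _)
  rw [Ideal.map_mul, Ideal.map_span, Set.image_singleton] at hb'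
  obtain ⟨r, hr, rfl⟩ := Ideal.mem_mul_span_singleton.mp hb'
  have hkey : φ e * (1 - r) = k := by linear_combination (-1 : Γ(Z', T)) * hbk
  have hzr : z ∉ Z'.basicOpen r := by
    intro hc
    let Q : Ideal Γ(Z', T) := (hT.primeIdealOf ⟨z, hzT⟩).asIdeal
    have hPQ : P.map φ ≤ Q := by
      rw [Ideal.map_le_iff_le_comap]
      intro a' ha'
      have h6 := congrArg PrimeSpectrum.asIdeal
        (IsAffineOpen.comap_primeIdealOf_appLE (f := g) W.1 W.2 T hT hTW' hzT)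
      exact h6.ge ha'
    have h8 : hT.primeIdealOf ⟨z, hzT⟩ ∈ hT.fromSpec ⁻¹ᵁ Z'.basicOpen r := by
      show hT.fromSpec (hT.primeIdealOf ⟨z, hzT⟩) ∈ Z'.basicOpen r
      rw [hT.fromSpec_primeIdealOf ⟨z, hzT⟩]
      exact hc
    rw [hT.fromSpec_preimage_basicOpen] at h8
    exact h8 (hPQ hr)
  have hzt : z ∈ Z'.basicOpen (1 - r) := by
    rw [Scheme.mem_basicOpen _ _ _ hzT, map_sub, map_one]
    refine IsLocalRing.isUnit_one_sub_self_of_mem_nonunits _ ?_
    rw [mem_nonunits_iff]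
    exact fun hh => hzr ((Scheme.mem_basicOpen _ _ _ hzT).mpr hh)
  obtain ⟨y, hyt, hyG, hy0⟩ := mem_closure_iff.mp hz _ (Z'.basicOpen (1 - r)).isOpen hzt
  have hyT : y ∈ T := Z'.basicOpen_le _ hyt
  have h9 := notMem_basicOpen_of_mem_support (mem_support_comap.mpr (hG hyG)) hyT hk
  rw [← hkey, Scheme.basicOpen_mul] at h9
  have h10 : g y ∉ X'.basicOpen e := by
    intro hh
    refine h9 ⟨?_, hyt⟩
    rw [hφ, Scheme.Hom.appLE, CommRingCat.hom_comp, RingHom.comp_apply, Scheme.basicOpen_res,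
      ← Scheme.preimage_basicOpen]
    exact ⟨hyT, hh⟩
  have h11 := mem_support_comap.mp (mem_support_of_notMem_basicOpen (hTW' hyT) he h10)
  refine Set.disjoint_left.mp h₁ h11 ?_
  rw [← Scheme.Hom.comp_apply, ← hgq]
  exact hy0

theorem inter_closure_eq_empty (p : Z ⟶ X) [QuasiCompact p] (X₀ : X.Opens) (F : Closeds X) (G : Closeds Z)
    (a : X.IdealSheafData) (h₁ : Disjoint (a.support : Set X) (X₀ : Set X))
    (h₂ : Scheme.IdealSheafData.vanishingIdeal F ≤ a)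
    (h₃ : a ≤ (((Scheme.IdealSheafData.vanishingIdeal F).comap p ⊔
      Scheme.IdealSheafData.vanishingIdeal G).subschemeι ≫ p).ker)
    (π : X' ⟶ X) (hπ : BlowUp.IsEffCartierIdeal (a.comap π)) :
    (pullback.snd p π).base ⁻¹' closure (π.base ⁻¹' ((F : Set X) ∩ (X₀ : Set X))) ∩
      closure ((pullback.fst p π).base ⁻¹' ((G : Set Z) ∩ (p ⁻¹ᵁ X₀ : Set Z))) = ∅ := by
  refine inter_closure_eq_empty_aux p X₀ (F : Set X) (Scheme.IdealSheafData.vanishingIdeal F) ?_ (G : Set Z)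
    (Scheme.IdealSheafData.vanishingIdeal G) ?_ a h₁ h₂ ?_ π hπ _ _ pullback.condition
  · exact Scheme.IdealSheafData.le_support_iff_le_vanishingIdeal.mpr le_rfl
  · exact Scheme.IdealSheafData.le_support_iff_le_vanishingIdeal.mpr le_rfl
  · rw [← Scheme.IdealSheafData.le_map_iff_comap_le]
    rw [← Scheme.IdealSheafData.map_ker, Scheme.IdealSheafData.ker_subschemeι] at h₃
    exact h₃

end Groth.Agent.BlowUpX
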