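import Groth.Agent.BlowUpLib.Glue
import Groth.Agent.BlowUpX.Basic

/-!
# The strict transform of a closed subscheme is a closed subscheme
-/

universe u

open CategoryTheory CategoryTheory.Limits AlgebraicGeometry TopologicalSpace

namespace Groth.Agent.BlowUpX

variable {X Y X' Y' : Scheme.{u}}

theorem closed_strictTransform (C : X.IdealSheafData) (f : Y ⟶ X) [IsClosedImmersion f]
    (b : X' ⟶ X) (hb : BlowUp.IsBlowUp b C) (b' : Y' ⟶ Y) (hb' : BlowUp.IsBlowUp b' (C.comap f))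
    (k : Y' ⟶ X') (hk : k ≫ b = b' ≫ f) :
    IsClosedImmersion k ∧ IsAffineHom ((k ⁻¹ᵁ (b ⁻¹ᵁ C.support.compl)).ι ≫ k) ∧
      ((k ⁻¹ᵁ (b ⁻¹ᵁ C.support.compl)).ι ≫ k).ker = k.ker := by
  obtain ⟨U, hU⟩ : ∃ U : X.Opens, U = ModPair.interior C := ⟨_, rfl⟩
  rw [show C.support.compl = U from hU.symm]
  haveI : IsIso (b ∣_ U) := by subst hU; exact isIso_restrict hb
  haveI : IsIso (b' ∣_ (f ⁻¹ᵁ U)) := by
    subst hU; rw [ModPairLib.preimage_interior]; exact isIso_restrict hb'
  haveI : IsAffineHom (b ⁻¹ᵁ U).ι := by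
    subst hU; rw [ModPairLib.preimage_interior]
    exact ModPairLib.isAffineHom_interior (ModPairLib.isLocPrincipal_of_isEffCartier hb.1)
  haveI : IsClosedImmersion (f ∣_ U) := IsZariskiLocalAtTarget.restrict ‹_› U
  have hcl : IsClosedImmersion (k ∣_ (b ⁻¹ᵁ U)) := by
    have h1 : IsClosedImmersion ((k ≫ b) ∣_ U) := by rw [hk, morphismRestrict_comp]; exact (MorphismProperty.cancel_left_of_respectsIso @IsClosedImmersion (b' ∣_ (f ⁻¹ᵁ U)) _).mpr ‹_›
    rw [morphismRestrict_comp] at h1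
    exact (MorphismProperty.cancel_right_of_respectsIso @IsClosedImmersion _ (b ∣_ U)).mp h1
  haveI := hcl
  have haff : IsAffineHom ((k ⁻¹ᵁ (b ⁻¹ᵁ U)).ι ≫ k) := by
    rw [← morphismRestrict_ι]; infer_instance
  haveI := haff
  haveI : IsSchemeTheoreticallyDominant (k ⁻¹ᵁ (b ⁻¹ᵁ U)).ι := by
    have e : k ⁻¹ᵁ (b ⁻¹ᵁ U) = ModPair.interior ((C.comap f).comap b') := by
      subst hU
      rw [ModPairLib.preimage_interior, ModPairLib.preimage_interior,
        ← Scheme.IdealSheafData.comap_comp, ← Scheme.IdealSheafData.comap_comp, hk]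
    rw [e]; exact ModPairLib.isSchemeTheoreticallyDominant_interior hb'.1
  generalize hq : (k ⁻¹ᵁ (b ⁻¹ᵁ U)).ι ≫ k = q at haff
  have hker : q.ker = k.ker := by
    rw [← hq, Scheme.Hom.ker_comp, Scheme.Hom.ker_eq_bot, Scheme.IdealSheafData.map_bot]
  refine ⟨?_, haff, hker⟩
  haveI := ModPairLib.isSchemeTheoreticallyDominant_toImage q
  let i : q.image ⟶ X' := q.imageι
  have hle : f.ker ≤ (i ≫ b).ker := by
    have h1 : (i ≫ b).ker = (q.toImage ≫ i ≫ b).ker := by
      conv_rhs => rw [Scheme.Hom.ker_comp q.toImage (i ≫ b), q.toImage.ker_eq_bot, Scheme.IdealSheafData.map_bot]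
    have h2 : q.toImage ≫ i ≫ b = ((k ⁻¹ᵁ (b ⁻¹ᵁ U)).ι ≫ b') ≫ f := by
      rw [← Category.assoc, q.toImage_imageι, ← hq, Category.assoc, hk, Category.assoc]
    rw [h1, h2]
    exact Scheme.Hom.le_ker_comp _ _
  let t : q.image ⟶ Y := IsClosedImmersion.lift f (i ≫ b) hle
  have ht : t ≫ f = i ≫ b := IsClosedImmersion.lift_fac _ _ _
  have hC : BlowUp.IsEffCartierIdeal (C.comap (i ≫ b)) := by
    let O : q.image.Opens := ModPair.interior (C.comap (i ≫ b))
    have hloc : ModPairLib.IsLocPrincipal (C.comap (i ≫ b)) := by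
      rw [Scheme.IdealSheafData.comap_comp]
      exact (ModPairLib.isLocPrincipal_of_isEffCartier hb.1).comap i
    haveI : IsAffineHom O.ι := ModPairLib.isAffineHom_interior hloc
    have hr : Set.range q.toImage ⊆ Set.range O.ι := by
      rw [Scheme.Opens.range_ι]
      rintro _ ⟨y, rfl⟩
      show q.toImage y ∈ ModPair.interior (C.comap (i ≫ b))
      rw [← ModPairLib.preimage_interior, ← hU]
      show b (i (q.toImage y)) ∈ U
      rw [← Scheme.Hom.comp_apply q.toImage, q.toImage_imageι, ← hq]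
      exact y.2
    haveI : IsSchemeTheoreticallyDominant O.ι := by
      refine ⟨le_bot_iff.mp ?_⟩
      calc O.ι.ker ≤ (IsOpenImmersion.lift O.ι q.toImage hr ≫ O.ι).ker := Scheme.Hom.le_ker_comp _ _
        _ = ⊥ := by rw [IsOpenImmersion.lift_fac, q.toImage.ker_eq_bot]
    exact ModPairLib.isEffCartier_of_dense hloc O le_rfl
  obtain ⟨v, hv, -⟩ := hb'.2 q.image t (by rw [← Scheme.IdealSheafData.comap_comp, ht]; exact hC)
  have hvk : v ≫ k = i := BlowUpLib.isBlowUp_hom_ext hb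
    (by rw [Category.assoc, hk, reassoc_of% hv, ht]) hC
  let w : Y' ⟶ q.image := IsClosedImmersion.lift i k
    (by rw [Scheme.IdealSheafData.ker_subschemeι]; exact hker.le)
  have hw : w ≫ i = k := IsClosedImmersion.lift_fac _ _ _
  have : IsIso w := ⟨v, BlowUpLib.isBlowUp_hom_ext hb' (by
      rw [Category.id_comp, Category.assoc, hv, ← cancel_mono f, Category.assoc, ht, ← Category.assoc,
        hw, hk]) (by rw [Category.id_comp]; exact hb'.1),
    by rw [← cancel_mono i, Category.assoc, hw, hvk, Category.id_comp]⟩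
  rw [← hw]
  infer_instance

end Groth.Agent.BlowUpX
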