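import Groth.Agent.KFlatLib.Scheme.Pullback
import Groth.Agent.BlowUpX.Separate
import Groth.Agent.QCoh.Stalk
import Groth.Prelude.Def_FlatMod2

/-!
# Strict transforms of modules flat along the centre
-/

universe u

open CategoryTheory AlgebraicGeometry TensorProduct Opposite

namespace Groth.Agent.BlowUpX

variable {X S : Scheme.{u}}

theorem smul_regular_stalk_pullback (b : X ⟶ S) (F : S.Modules) (y : X)
    (hflat : FlatMod.IsFlatAt F (b y)) (t : X.presheaf.stalk y) (ht : t ∈ nonZeroDivisors (X.presheaf.stalk y))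
    (z : ((Scheme.Modules.pullback b).obj F).presheaf.stalk y) (hz : t • z = 0) : z = 0 := by
  let R : Type u := S.presheaf.stalk (b y)
  let B : Type u := X.presheaf.stalk y
  let M : Type u := F.presheaf.stalk (b y)
  letI : Algebra R B := (b.stalkMap y).hom.toAlgebra
  haveI : Module.Flat R M := hflat
  let e := ((KFlatLib.stalkPullbackIso b y).app F).toLinearEquiv
  have h1 := congrArg e hz
  erw [map_smul, map_zero] at h1
  have hinj : Function.Injective ((DistribSMul.toLinearMap R B (t : B)).rTensor M) :=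
    Module.Flat.rTensor_preserves_injective_linearMap _ fun p q hpq =>
      (mul_cancel_left_mem_nonZeroDivisors ht).mp (by simpa [smul_eq_mul] using hpq)
  have hsm : ∀ w : B ⊗[R] M, (DistribSMul.toLinearMap R B (t : B)).rTensor M w = (t : B) • w := by
    intro w
    induction w with
    | zero => rw [map_zero, smul_zero]
    | tmul p q => rfl
    | add p q hp hq => rw [map_add, hp, hq, smul_add]
  have h2 : e z = 0 := hinj ((hsm _).trans (h1.trans (map_zero _).symm))
  exact e.map_eq_zero_iff.1 h2

theorem eq_zero_of_germs (M : X.Modules) (U : X.Opens) (m : Γ(M, U))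
    (h : ∀ y (hy : y ∈ U), M.presheaf.germ U y hy m = 0) : m = 0 :=
  TopCat.Presheaf.section_ext (⟨M.presheaf, M.isSheaf⟩ : TopCat.Sheaf AddCommGrpCat X) U m 0 fun y hy => by
    rw [map_zero]; exact h y hy

/-- No section of a flat module is torsion for the exceptional divisor. -/
theorem isStrictTransform_id (I : S.IdealSheafData) (b : X ⟶ S) (hE : BlowUp.IsEffCartierIdeal (I.comap b))
    (F : S.Modules) (hflat : ∀ s : S, s ∈ I.support → FlatMod.IsFlatAt F s) :
    BlowUp.IsStrictTransform b I F ((Scheme.Modules.pullback b).obj F) (𝟙 _) := by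
  refine ⟨inferInstance, fun V m => ?_⟩
  constructor
  · intro h
    have hm : m = 0 := h
    exact ⟨0, fun a _ => by rw [hm]; exact smul_zero a⟩
  rintro ⟨n, hn⟩
  show m = 0
  refine eq_zero_of_germs _ V.1 m fun y hy => ?_
  obtain ⟨W, hyW, e, he0, he⟩ := hE y
  let g : Γ(X, V.1) →+* X.presheaf.stalk y := (X.presheaf.germ V.1 y hy).hom
  let t : X.presheaf.stalk y := X.presheaf.germ W.1 y hyW e
  have ht0 : t ∈ nonZeroDivisors (X.presheaf.stalk y) := MeroX.germ_mem_nonZeroDivisors W.2 he0 y hyW
  have htmem : t ∈ ((BlowUp.exceptional b I).ideal V).map g := by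
    obtain ⟨D, hD, hyD, hDle⟩ := exists_isAffineOpen_mem_and_subset (U := V.1 ⊓ W.1) ⟨hy, hyW⟩
    have hDV : D ≤ V.1 := fun z hz => (hDle hz).1
    have hDW : D ≤ W.1 := fun z hz => (hDle hz).2
    have h1 : (X.presheaf.map (homOfLE hDW).op).hom e ∈ (I.comap b).ideal ⟨D, hD⟩ := by
      rw [← (I.comap b).map_ideal (U := ⟨D, hD⟩) (V := W) hDW, he]
      exact Ideal.mem_map_of_mem _ (Ideal.mem_span_singleton_self e)
    rw [← (I.comap b).map_ideal (U := ⟨D, hD⟩) (V := V) hDV] at h1
    have h2 := Ideal.mem_map_of_mem (X.presheaf.germ D y hyD).hom h1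
    have hcomp : (X.presheaf.germ D y hyD).hom.comp (X.presheaf.map (homOfLE hDV).op).hom = g :=
      RingHom.ext fun a => X.presheaf.germ_res_apply (homOfLE hDV) y hyD a
    rw [Ideal.map_map] at h2
    erw [hcomp] at h2
    exact (congrArg (· ∈ ((BlowUp.exceptional b I).ideal V).map g)
      (X.presheaf.germ_res_apply (homOfLE hDW) y hyD e)).mp h2
  let z : ((Scheme.Modules.pullback b).obj F).presheaf.stalk y :=
    ((Scheme.Modules.pullback b).obj F).presheaf.germ V.1 y hy m
  let A : Ideal (X.presheaf.stalk y) :=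
    LinearMap.ker (LinearMap.toSpanSingleton (X.presheaf.stalk y)
      (((Scheme.Modules.pullback b).obj F).presheaf.stalk y) z)
  have htA : t ^ n ∈ A := by
    have hle : (((BlowUp.exceptional b I) ^ n).ideal V).map g ≤ A := by
      rw [Ideal.map_le_iff_le_comap]
      intro a ha
      show g a • z = 0
      rw [← QCoh.germ_smul' ((Scheme.Modules.pullback b).obj F) hy a m, hn a ha, map_zero]
    refine hle ?_
    rw [Scheme.IdealSheafData.ideal_pow, Pi.pow_apply, Ideal.map_pow]
    exact Ideal.pow_mem_pow htmem n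
  have htz : t ^ n • z = 0 := htA
  by_cases hs : b y ∈ I.support
  · exact smul_regular_stalk_pullback b F y (hflat _ hs) _ (pow_mem ht0 n) z htz
  · have hu : IsUnit t := by
      refine (Scheme.mem_basicOpen X e y hyW).mp ?_
      by_contra hne
      exact hs (mem_support_comap.mp (mem_support_of_notMem_basicOpen hyW he hne))
    exact (hu.pow n).smul_eq_zero.mp htz

end Groth.Agent.BlowUpX
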