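import Groth.Agent.BlowUpX.Strict

/-!
# Residual ideals near strict transforms
-/

universe u

open CategoryTheory CategoryTheory.Limits AlgebraicGeometry TopologicalSpace

namespace Groth.Agent.BlowUpX

variable {X Y X' Y' : Scheme.{u}}

theorem comap_le_ker {I : X.IdealSheafData} {b : X' ⟶ X} {b' : Y' ⟶ Y} {f : Y ⟶ X} {k : Y' ⟶ X'}
    (hf : I ≤ f.ker) (hk : k ≫ b = b' ≫ f) : I.comap b ≤ k.ker := by
  rw [← Scheme.IdealSheafData.le_map_iff_comap_le, Scheme.IdealSheafData.map_ker, hk]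
  exact hf.trans (Scheme.Hom.le_ker_comp _ _)

/-- The residual of an element vanishing on the strict transform is no unit there. -/
theorem notMem_basicOpen_of_mul_mem_ker (k : Y' ⟶ X') {E : X'.IdealSheafData}
    (hE : BlowUp.IsEffCartierIdeal (E.comap k)) (W : X'.affineOpens) {e r : Γ(X', W.1)}
    (he : E.ideal W = Ideal.span {e}) (hre : r * e ∈ k.ker.ideal W) (y : Y') :
    k y ∉ X'.basicOpen r := by
  intro hy
  obtain ⟨V, hV, hyV, hVr⟩ := exists_isAffineOpen_mem_and_subset (U := k ⁻¹ᵁ X'.basicOpen r) hy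
  have hVW : V ≤ k ⁻¹ᵁ W.1 := fun z hz => X'.basicOpen_le r (hVr hz)
  have hφ : (E.comap k).ideal ⟨V, hV⟩ = Ideal.span {(k.appLE W.1 V hVW).hom e} := by
    rw [ModPairLib.ideal_comap E k W ⟨V, hV⟩ hVW, he, Ideal.map_span, Set.image_singleton]
  have hnz := ModPairLib.generator_mem_nonZeroDivisors hE hφ
  have hu : IsUnit ((k.appLE W.1 V hVW).hom r) := by
    have hVr' : V ≤ k ⁻¹ᵁ X'.basicOpen r := hVr
    rw [← k.map_appLE hVr' (homOfLE (X'.basicOpen_le r)).op, CommRingCat.hom_comp, RingHom.comp_apply]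
    exact IsUnit.map (k.appLE (X'.basicOpen r) V hVr').hom (RingedSpace.isUnit_res_basicOpen X'.toRingedSpace r)
  have h0 : (k.appLE W.1 V hVW).hom (r * e) = 0 := by
    have h1 : (k.app W.1).hom (r * e) = 0 :=
      RingHom.mem_ker.mp (k.ideal_ker_le W hre)
    rw [Scheme.Hom.appLE]
    exact (congrArg (Y'.presheaf.map (homOfLE hVW).op).hom h1).trans (map_zero _)
  rw [map_mul] at h0
  have hr0 := mem_nonZeroDivisors_iff_right.mp hnz _ h0
  haveI : Nonempty V.toScheme := ⟨⟨y, hyV⟩⟩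
  haveI : Nontrivial Γ(Y', V) := inferInstance
  exact not_isUnit_zero (hr0 ▸ hu)

/-- The strict transforms of subschemes have no common point after blowing up their intersection. -/
theorem iInter_range_eq_empty {ι : Type*} (J : ι → X.IdealSheafData) (b : X' ⟶ X)
    (hb : BlowUp.IsBlowUp b (⨆ i, J i)) (Y : ι → Scheme.{u}) (f : ∀ i, Y i ⟶ X)
    (hf : ∀ i, J i ≤ (f i).ker) (Y' : ι → Scheme.{u}) (b' : ∀ i, Y' i ⟶ Y i)
    (hb' : ∀ i, BlowUp.IsBlowUp (b' i) ((⨆ j, J j).comap (f i))) (k : ∀ i, Y' i ⟶ X')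
    (hk : ∀ i, k i ≫ b = b' i ≫ f i) : (⋂ i, Set.range (fun y => k i y)) = (∅ : Set X') := by
  rw [Set.eq_empty_iff_forall_notMem]
  intro x hx
  rw [Set.mem_iInter] at hx
  obtain ⟨W, hxW, e, he0, he⟩ := hb.1 x
  let P := (W.2.primeIdealOf ⟨x, hxW⟩).asIdeal
  have hgc : ((⨆ j, J j).comap b) = ⨆ j, (J j).comap b := (Scheme.IdealSheafData.map_gc b).l_iSup
  have hJ : ∀ i, ((J i).comap b).ideal W ≤ P * Ideal.span {e} := by
    intro i a ha
    have ha' : a ∈ Ideal.span {e} := by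
      rw [← he]
      exact (Scheme.IdealSheafData.comap_mono b (le_iSup J i) : (J i).comap b ≤ _) W ha
    obtain ⟨r, rfl⟩ := Ideal.mem_span_singleton'.mp ha'
    refine Ideal.mul_mem_mul ?_ (Ideal.mem_span_singleton_self e)
    by_contra hr
    obtain ⟨y, hy⟩ := hx i
    refine notMem_basicOpen_of_mul_mem_ker (k i) (E := (⨆ j, J j).comap b) ?_ W he
      (comap_le_ker (hf i) (hk i) W ha) y ?_
    · rw [← Scheme.IdealSheafData.comap_comp, hk, Scheme.IdealSheafData.comap_comp]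
      exact (hb' i).1
    · rw [show k i y = x from hy]
      have h1 : W.2.primeIdealOf ⟨x, hxW⟩ ∈ W.2.fromSpec ⁻¹ᵁ X'.basicOpen r := by
        rw [W.2.fromSpec_preimage_basicOpen]; exact hr
      have h3 : W.2.fromSpec (W.2.primeIdealOf ⟨x, hxW⟩) ∈ X'.basicOpen r := h1
      rw [W.2.fromSpec_primeIdealOf ⟨x, hxW⟩] at h3
      exact h3
  have h2 : Ideal.span {e} ≤ P * Ideal.span {e} := by
    conv_lhs => rw [← he, hgc, Scheme.IdealSheafData.ideal_iSup, iSup_apply]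
    exact iSup_le hJ
  obtain ⟨p, hp, hpe⟩ := Ideal.mem_mul_span_singleton.mp (h2 (Ideal.mem_span_singleton_self e))
  have hp1 : p - 1 = 0 := mem_nonZeroDivisors_iff_right.mp he0 _ (by rw [sub_mul, hpe, one_mul, sub_self])
  exact (W.2.primeIdealOf ⟨x, hxW⟩).2.ne_top ((Ideal.eq_top_iff_one _).mpr (sub_eq_zero.mp hp1 ▸ hp))

/-- A local equation of one subscheme never generates the exceptional ideal near its strict transform. -/
theorem ne_span_near_strict (I : X.IdealSheafData) (C : X.IdealSheafData) (b : X' ⟶ X) (f : Y ⟶ X)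
    (hf : I ≤ f.ker) (b' : Y' ⟶ Y) (hb' : BlowUp.IsBlowUp b' (C.comap f)) (k : Y' ⟶ X')
    (hk : k ≫ b = b' ≫ f) (V : X.affineOpens) (s : Γ(X, V.1)) (hs : s ∈ I.ideal V)
    (V' : X'.affineOpens) (hV' : V'.1 ≤ b ⁻¹ᵁ V.1)
    (hmeet : (Set.range (fun y => k y) ∩ (V'.1 : Set X')).Nonempty) :
    (C.comap b).ideal V' ≠ Ideal.span {(b.appLE V.1 V'.1 hV').hom s} := by
  intro he
  obtain ⟨_, ⟨y, rfl⟩, hyV⟩ := hmeet
  refine notMem_basicOpen_of_mul_mem_ker k (E := C.comap b) (r := 1) ?_ V' he ?_ y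
    (by rw [X'.basicOpen_of_isUnit isUnit_one]; exact hyV)
  · rw [← Scheme.IdealSheafData.comap_comp, hk, Scheme.IdealSheafData.comap_comp]
    exact hb'.1
  · rw [one_mul]
    refine comap_le_ker hf hk V' ?_
    rw [ModPairLib.ideal_comap I b V V' hV']
    exact Ideal.mem_map_of_mem _ hs

end Groth.Agent.BlowUpX
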