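import Groth.Prelude.Def_CurvBase
import Groth.Agent.BlowExc.Main
import Groth.Agent.RegLoc6.Seq
import Groth.Agent.RegLoc6.Basic
import Groth.Agent.MeroX.Basic
import Groth.Agent.FComplLib.IdealComap
import Groth.Agent.ModPairLib.Quot

/-!
The multiplicity of the exceptional divisor in the pull-back of a divisor.
-/

universe u

open CategoryTheory CategoryTheory.Limits AlgebraicGeometry MvPolynomial

namespace Groth.Agent.BlowUpX

open Groth.Agent.BlowUpLib

variable {A : Type u} [CommRing A] {n : ℕ}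

theorem exists_dehom (a : Fin n → A) (j : Fin n) {μ : ℕ} (P : MvPolynomial (Fin n) A) (hP : P.IsHomogeneous μ)
    (e₀ : Fin n →₀ ℕ) (he₀ : P.coeff e₀ ∉ Ideal.span (Set.range a)) :
    ∃ Q : MvPolynomial {i : Fin n // i ≠ j} A, (∃ e, Q.coeff e ∉ Ideal.span (Set.range a)) ∧
      algebraMap A (BlowUp.affineAlgebra A (Ideal.span (Set.range a)) (a j)) (eval a P) =
        algebraMap A _ (a j) ^ μ * aeval (R := A) (BlowExc.frc a j) Q := by
  classical
  let φ : (Fin n →₀ ℕ) → ({i : Fin n // i ≠ j} →₀ ℕ) := fun e => e.subtypeDomain fun i => i ≠ j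
  let Q : MvPolynomial {i : Fin n // i ≠ j} A := ∑ e ∈ P.support, monomial (φ e) (P.coeff e)
  have hinj : ∀ e ∈ P.support, ∀ e' ∈ P.support, φ e = φ e' → e = e' := by
    intro e he e' he' h
    have hne : ∀ i, i ≠ j → e i = e' i := fun i hi => congrArg (fun g => g ⟨i, hi⟩) h
    have h1 : e.degree = μ := by
      rw [Finsupp.degree_eq_weight_one]; exact hP (mem_support_iff.mp he)
    have h2 : e'.degree = μ := by
      rw [Finsupp.degree_eq_weight_one]; exact hP (mem_support_iff.mp he')
    rw [Finsupp.degree_eq_sum, ← Finset.add_sum_erase _ _ (Finset.mem_univ j)] at h1 h2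
    have h3 : ∑ i ∈ Finset.univ.erase j, e i = ∑ i ∈ Finset.univ.erase j, e' i :=
      Finset.sum_congr rfl fun i hi => hne i (Finset.ne_of_mem_erase hi)
    rw [h3] at h1
    have h4 : e j = e' j := Nat.add_right_cancel (h1.trans h2.symm)
    ext i
    by_cases hi : i = j
    · subst hi; exact h4
    · exact hne i hi
  refine ⟨Q, ⟨φ e₀, ?_⟩, ?_⟩
  · have h0 : e₀ ∈ P.support := mem_support_iff.mpr fun h => he₀ (h ▸ zero_mem _)
    have hc : Q.coeff (φ e₀) = P.coeff e₀ := by
      simp only [Q, coeff_sum, coeff_monomial]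
      rw [Finset.sum_eq_single e₀ (fun e he hne => if_neg fun h => hne (hinj e he e₀ h0 h))
        (fun h => absurd h0 h), if_pos rfl]
    rw [hc]; exact he₀
  · conv_lhs => rw [P.as_sum, map_sum, map_sum]
    simp only [Q, map_sum, Finset.mul_sum]
    refine Finset.sum_congr rfl fun e he => ?_
    rw [eval_monomial, aeval_monomial, map_mul, Finsupp.prod_fintype _ _ (by simp),
      Finsupp.prod_fintype _ _ (by simp), map_prod]
    have hdeg : e.degree = μ := by
      rw [Finsupp.degree_eq_weight_one]; exact hP (mem_support_iff.mp he)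
    rw [← hdeg, Finsupp.degree_eq_sum, ← Finset.prod_pow_eq_pow_sum, mul_left_comm]
    congr 1
    rw [← Finset.mul_prod_erase _ _ (Finset.mem_univ j),
      ← Finset.mul_prod_erase (Finset.univ : Finset (Fin n)) _ (Finset.mem_univ j), map_pow, mul_assoc]
    congr 1
    rw [show ∏ i, BlowExc.frc a j i ^ φ e i =
        ∏ i ∈ (Finset.univ.erase j).attach, BlowExc.frc a j ⟨i.1, Finset.ne_of_mem_erase i.2⟩ ^ e i.1 from
      Finset.prod_bij' (fun i _ => ⟨i.1, Finset.mem_erase.mpr ⟨i.2, Finset.mem_univ _⟩⟩)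
        (fun i _ => ⟨i.1, Finset.ne_of_mem_erase i.2⟩) (fun _ _ => Finset.mem_attach _ _)
        (fun _ _ => Finset.mem_univ _) (fun _ _ => rfl) (fun _ _ => rfl) (fun _ _ => rfl),
      ← Finset.prod_attach (Finset.univ.erase j) (fun i => algebraMap A _ (a i ^ e i)),
      ← Finset.prod_attach (Finset.univ.erase j) (fun i => algebraMap A _ (a j) ^ e i),
      ← Finset.prod_mul_distrib]
    refine Finset.prod_congr rfl fun i _ => ?_
    rw [← mul_pow, map_pow, BlowExc.frc_mul]

theorem notMem_radical_chart [IsLocalRing A] (a : Fin n → A) (j : Fin n)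
    (ha : RingTheory.Sequence.IsWeaklyRegular A (List.ofFn a))
    (hmax : Ideal.span (Set.range a) = IsLocalRing.maximalIdeal A) (Q : MvPolynomial {i : Fin n // i ≠ j} A)
    (hQ : ∃ e, Q.coeff e ∉ Ideal.span (Set.range a)) (k : ℕ) :
    aeval (R := A) (BlowExc.frc a j) Q ^ k ∉ (Ideal.span (Set.range a)).map
      (algebraMap A (BlowUp.affineAlgebra A (Ideal.span (Set.range a)) (a j))) := by
  intro hmem
  rw [← map_pow] at hmem
  have h := BlowExc.coeff_mem a j ha (Q ^ k) hmem
  haveI : IsDomain (A ⧸ Ideal.span (Set.range a)) := by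
    rw [hmax]; infer_instance
  have h0 : MvPolynomial.map (Ideal.Quotient.mk (Ideal.span (Set.range a))) Q ^ k = 0 := by
    rw [← map_pow]
    refine MvPolynomial.ext _ _ fun e => ?_
    rw [coeff_map, coeff_zero, Ideal.Quotient.eq_zero_iff_mem]
    exact h e
  obtain ⟨e, he⟩ := hQ
  refine he (Ideal.Quotient.eq_zero_iff_mem.mp ?_)
  rw [← coeff_map, eq_zero_of_pow_eq_zero h0, coeff_zero]

variable {B : Type u} [CommRing B]

theorem centre_mul (I J : Ideal B) : centre (I * J) = centre I * centre J := by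
  refine Scheme.IdealSheafData.ext_of_isAffine ?_
  rw [Scheme.IdealSheafData.ideal_mul, Pi.mul_apply, centre_top, centre_top, centre_top, Ideal.map_mul]

theorem centre_span_pow (c : B) : ∀ m : ℕ, centre (Ideal.span {c}) ^ m = centre (Ideal.span {c ^ m}) := by
  intro m
  induction m with
  | zero =>
    rw [pow_zero, pow_zero, Ideal.span_singleton_one]
    refine Scheme.IdealSheafData.ext_of_isAffine ?_
    rw [centre_top, Ideal.map_top, Scheme.IdealSheafData.one_eq_top, Scheme.IdealSheafData.ideal_top, Pi.top_apply]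
  | succ m ih => rw [pow_succ, pow_succ, ih, ← centre_mul, Ideal.span_singleton_mul_span_singleton]

theorem le_of_centre_le {I J : Ideal B} (h : centre I ≤ centre J) : I ≤ J := by
  have h1 := h ⟨⊤, isAffineOpen_top _⟩
  rw [centre_top, centre_top] at h1
  have hbij := ConcreteCategory.bijective_of_isIso (Scheme.ΓSpecIso (CommRingCat.of B)).inv
  intro x hx
  obtain ⟨y, hy, e⟩ := (Ideal.mem_map_iff_of_surjective _ hbij.2).mp (h1 (Ideal.mem_map_of_mem _ hx))
  exact hbij.1 e ▸ hy

theorem mem_support_centre (J : Ideal B) (p : Spec (CommRingCat.of B)) :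
    p ∈ ((centre J).support : Set (Spec (CommRingCat.of B))) ↔ J ≤ p.asIdeal := by
  refine (Scheme.IdealSheafData.mem_support_iff_of_mem (U := ⟨⊤, isAffineOpen_top _⟩) (Set.mem_univ _)).trans ?_
  rw [centre_top, Scheme.mem_zeroLocus_iff]
  have key : ∀ x : B, p ∈ (Spec (CommRingCat.of B)).basicOpen ((Scheme.ΓSpecIso (CommRingCat.of B)).inv x) ↔
      x ∉ p.asIdeal := fun x => by
    rw [basicOpen_eq_of_affine]; rfl
  constructor
  · exact fun h x hx => not_not.mp fun hxp => h _ (Ideal.mem_map_of_mem _ hx) ((key x).mpr hxp)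
  · intro h z hz
    obtain ⟨x, hx, rfl⟩ := (Ideal.mem_map_iff_of_surjective _
      (ConcreteCategory.bijective_of_isIso (Scheme.ΓSpecIso (CommRingCat.of B)).inv).2).mp hz
    exact fun hp => (key x).mp hp (h hx)

theorem isEffCartier_centre_span {c : B} (hc : c ∈ nonZeroDivisors B) :
    BlowUp.IsEffCartierIdeal (centre (Ideal.span {c})) := fun _ =>
  ⟨⟨⊤, isAffineOpen_top _⟩, trivial, (Scheme.ΓSpecIso (CommRingCat.of B)).inv c,
    ModPairLib.mem_nonZeroDivisors_map _ (ConcreteCategory.bijective_of_isIso _) hc,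
    by rw [centre_top, Ideal.map_span, Set.image_singleton]⟩

theorem map_mem_nonZeroDivisors_affineAlgebra (I : Ideal A) (a : A) {f : A} (hf : f ∈ nonZeroDivisors A) :
    algebraMap A (BlowUp.affineAlgebra A I a) f ∈ nonZeroDivisors (BlowUp.affineAlgebra A I a) := by
  have h1 := MeroX.nonZeroDivisors_map (A := A) (S := Localization.Away a) (Submonoid.powers a) hf
  exact mem_nonZeroDivisors_iff_right.mpr fun q hq =>
    Subtype.ext (mem_nonZeroDivisors_iff_right.mp h1 q.1 (congrArg Subtype.val hq))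

theorem pullback_mult_eq {A : Type u} [CommRing A] [IsRegularLocalRing A] (hA : 0 < ringKrullDim A)
    {X : Scheme.{u}} (b : X ⟶ Spec (CommRingCat.of A))
    (hb : BlowUp.IsBlowUp b (centre (IsLocalRing.maximalIdeal A)))
    (f : A) (μ : ℕ) (hf : f ∈ IsLocalRing.maximalIdeal A ^ μ) (hf' : f ∉ IsLocalRing.maximalIdeal A ^ (μ + 1)) :
    (centre (Ideal.span {f})).comap b ≤ (centre (IsLocalRing.maximalIdeal A)).comap b ^ μ ∧
      ¬ (centre (Ideal.span {f})).comap b ≤ (centre (IsLocalRing.maximalIdeal A)).comap b ^ (μ + 1) ∧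
      ∃ I' : X.IdealSheafData, BlowUp.IsEffCartierIdeal I' ∧
        (centre (Ideal.span {f})).comap b = I' * (centre (IsLocalRing.maximalIdeal A)).comap b ^ μ ∧
        ¬ (((centre (IsLocalRing.maximalIdeal A)).comap b).support : Set X) ⊆ (I'.support : Set X) := by
  obtain ⟨rs, hrs, hgen⟩ := RegLoc6.exists_regularSequence_maximalIdeal A
  let a : Fin rs.length → A := rs.get
  have hmax : Ideal.span (Set.range a) = IsLocalRing.maximalIdeal A := by
    rw [← hgen, Ideal.ofList]
    congr 1
    ext x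
    exact List.mem_iff_get.symm
  have ha : RingTheory.Sequence.IsWeaklyRegular A (List.ofFn a) := by
    rw [List.ofFn_get]; exact hrs.toIsWeaklyRegular
  haveI := RegLoc6.isDomain_of_isRegularLocalRing A
  have hn : 0 < rs.length := by
    by_contra hn
    have h0 : IsLocalRing.maximalIdeal A = ⊥ := by
      rw [← hgen, List.length_eq_zero_iff.mp (Nat.eq_zero_of_not_pos hn), Ideal.ofList_nil]
    have : IsField A := IsLocalRing.isField_iff_maximalIdeal_eq.mpr h0
    rw [ringKrullDim_eq_zero_of_isField this] at hA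
    exact lt_irrefl _ hA
  have hf0 : f ≠ 0 := fun h => hf' (h ▸ zero_mem _)
  rw [← hmax] at hb hf hf' ⊢
  set I := Ideal.span (Set.range a)
  obtain ⟨ε, hε⟩ := exists_iso hb (isBlowUp_local I)
  have hck : ∀ (x : I) (J : Ideal A), ((centre J).comap b).comap (chart I x ≫ ε.inv) =
      centre (J.map (algebraMap A (BlowUp.affineAlgebra A I (x : A)))) := fun x J => by
    rw [← Scheme.IdealSheafData.comap_comp, Category.assoc, ← hε, Iso.inv_hom_id_assoc, chart_toBase,
      BlowExc.centre_comap]
  have hE := hb.1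
  have hEn : ∀ m : ℕ, BlowUp.IsEffCartierIdeal ((centre I).comap b ^ m) := fun m => by
    induction m with
    | zero => rw [pow_zero, Scheme.IdealSheafData.one_eq_top]; exact isEffCartier_top X
    | succ m ih => rw [pow_succ]; exact ModPairLib.isEffCartier_mul ih hE
  have hle : (centre (Ideal.span {f})).comap b ≤ (centre I).comap b ^ μ := by
    rw [← FComplLib.comap_pow]
    refine Scheme.IdealSheafData.comap_mono b ?_
    refine Scheme.IdealSheafData.le_of_isAffine ?_
    rw [Scheme.IdealSheafData.ideal_pow, Pi.pow_apply, centre_top, centre_top, ← Ideal.map_pow]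
    exact Ideal.map_mono ((Ideal.span_singleton_le_iff_mem _).mpr hf)
  have hFc : BlowUp.IsEffCartierIdeal ((centre (Ideal.span {f})).comap b) := by
    refine ModPairLib.isEffCartier_of_comap (fun x : I => chart I x ≫ ε.inv) (fun z => ?_) fun x => ?_
    · obtain ⟨x, p, hp⟩ := chart_covers I (ε.hom z)
      exact ⟨x, p, by rw [Scheme.Hom.comp_apply, hp, ← Scheme.Hom.comp_apply, Iso.hom_inv_id]; rfl⟩
    · rw [hck, Ideal.map_span, Set.image_singleton]
      exact isEffCartier_centre_span
        (map_mem_nonZeroDivisors_affineAlgebra I (x : A) (mem_nonZeroDivisors_of_ne_zero hf0))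
  obtain ⟨P, hP, hPf⟩ := (Ideal.mem_span_pow_iff_exists_isHomogeneous a f).mp hf
  obtain ⟨e₀, he₀⟩ : ∃ e₀, P.coeff e₀ ∉ I := by
    by_contra! hall
    refine hf' ?_
    rw [← hPf, P.as_sum, map_sum]
    refine Ideal.sum_mem _ fun e he => ?_
    rw [eval_monomial, pow_succ']
    refine Ideal.mul_mem_mul (hall e) ?_
    rw [Finsupp.prod_fintype _ _ (by simp)]
    have hdeg : e.degree = μ := by
      rw [Finsupp.degree_eq_weight_one]; exact hP (mem_support_iff.mp he)
    rw [← hdeg, Finsupp.degree_eq_sum, ← Finset.prod_pow_eq_pow_sum]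
    exact Ideal.prod_mem_prod fun i _ => Ideal.pow_mem_pow (I := I) (Ideal.subset_span (Set.mem_range_self i)) _
  let j : Fin rs.length := ⟨0, hn⟩
  let aj : I := ⟨a j, Ideal.subset_span ⟨j, rfl⟩⟩
  obtain ⟨Q, hQ, hQf⟩ := exists_dehom a j P hP e₀ he₀
  rw [hPf] at hQf
  let φ := algebraMap A (BlowUp.affineAlgebra A I (a j))
  let f' := aeval (R := A) (BlowExc.frc a j) Q
  have hJ : I.map φ = Ideal.span {φ (a j)} := by
    refine le_antisymm (Ideal.map_le_iff_le_comap.mpr fun x hx => ?_)
      ((Ideal.span_singleton_le_iff_mem _).mpr (Ideal.mem_map_of_mem φ aj.2))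
    exact Ideal.mem_span_singleton'.mpr ⟨frac I ⟨x, hx⟩ aj, frac_mul I ⟨x, hx⟩ aj⟩
  have hnot : ∀ k, f' ^ k ∉ I.map φ := notMem_radical_chart a j ha hmax Q hQ
  let k := chart I aj ≫ ε.inv
  have hEk : ((centre I).comap b).comap k = centre (Ideal.span {φ (a j)}) := (hck aj I).trans (by rw [← hJ])
  have hFk : ((centre (Ideal.span {f})).comap b).comap k = centre (Ideal.span {φ (a j) ^ μ * f'}) := by
    refine (hck aj _).trans ?_
    rw [Ideal.map_span, Set.image_singleton, ← hQf]
  have haj : φ (a j) ∈ nonZeroDivisors (BlowUp.affineAlgebra A I (a j)) :=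
    mem_nonZeroDivisors_iff_right.mpr fun q hq => Subtype.ext (mem_nonZeroDivisors_iff_right.mp
      (IsLocalization.Away.algebraMap_isUnit (S := Localization.Away (a j)) (a j)).mem_nonZeroDivisors
        q.1 (congrArg Subtype.val hq))
  refine ⟨hle, fun hcon => ?_, ModPairLib.colon _ _ (ModPairLib.isLocPrincipal_of_isEffCartier (hEn μ)),
    ?_, (ModPairLib.colon_mul (hEn μ) hle).symm, fun hsub => ?_⟩
  · have h1 := Scheme.IdealSheafData.comap_mono k hcon
    simp only [FComplLib.comap_pow, hEk, hFk, centre_span_pow] at h1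
    obtain ⟨c, hc⟩ := Ideal.mem_span_singleton.mp
      (le_of_centre_le h1 (Ideal.mem_span_singleton_self _))
    rw [pow_succ, mul_assoc] at hc
    refine hnot 1 ?_
    rw [pow_one, (mul_cancel_left_mem_nonZeroDivisors (pow_mem haj μ)).mp hc]
    exact Ideal.mul_mem_right _ _ (Ideal.mem_map_of_mem φ aj.2)
  · exact ModPairLib.isEffCartier_of_mul (hEn μ) (by rw [ModPairLib.colon_mul (hEn μ) hle]; exact hFc)
  · obtain ⟨p, hpJ, hpf⟩ : ∃ p : Ideal (BlowUp.affineAlgebra A I (a j)), ∃ _ : I.map φ ≤ p ∧ p.IsPrime,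
        f' ∉ p := by
      have hr : f' ∉ (I.map φ).radical := fun ⟨k, hk⟩ => hnot k hk
      rw [Ideal.radical_eq_sInf, Submodule.mem_sInf] at hr
      push Not at hr
      obtain ⟨p, hp, hpf⟩ := hr
      exact ⟨p, hp, hpf⟩
    let pt : Spec (CommRingCat.of (BlowUp.affineAlgebra A I (a j))) := ⟨p, hpJ.2⟩
    have h1 : k pt ∈ (((centre I).comap b).support : Set X) := by
      have : pt ∈ ((((centre I).comap b).comap k).support : Set _) := by
        rw [hEk, mem_support_centre, ← hJ]; exact hpJ.1
      rwa [Scheme.IdealSheafData.support_comap] at this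
    have h2 : pt ∈ (((ModPairLib.colon ((centre (Ideal.span {f})).comap b) _ (ModPairLib.isLocPrincipal_of_isEffCartier (hEn μ))).comap k).support
        : Set _) := by
      rw [Scheme.IdealSheafData.support_comap]; exact hsub h1
    have hI' : (ModPairLib.colon ((centre (Ideal.span {f})).comap b) _ (ModPairLib.isLocPrincipal_of_isEffCartier (hEn μ))).comap k =
        centre (Ideal.span {f'}) := by
      refine ModPairLib.eq_of_mul_eq_mul (E := centre (Ideal.span {φ (a j) ^ μ}))
        (isEffCartier_centre_span (pow_mem haj μ)) ?_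
      rw [← centre_mul, Ideal.span_singleton_mul_span_singleton, mul_comm f', ← hFk, ← centre_span_pow, ← hEk,
        ← FComplLib.comap_pow k ((centre I).comap b) μ, ← FComplLib.comap_mul, ModPairLib.colon_mul (hEn μ) hle]
    rw [hI', mem_support_centre] at h2
    exact hpf (h2 (Ideal.mem_span_singleton_self _))

end Groth.Agent.BlowUpX
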