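import Groth.Agent.KFlatLib.Scheme.Pullback
import Groth.Agent.DimFormula.Stalk
import Groth.Prelude.Def_CurvBase

/-!
# Weakly associated points under flat pullback at generic points of fibres
-/

universe u

open CategoryTheory AlgebraicGeometry TensorProduct

namespace Groth.Agent.BlowUpX

theorem exists_radical_flat {R S M : Type u} [CommRing R] [CommRing S] [Algebra R S] [Module.Flat R S]
    [AddCommGroup M] [Module R M] (m : M) :
    LinearMap.ker (LinearMap.toSpanSingleton S (S ⊗[R] M) (1 ⊗ₜ m)) =
      Ideal.map (algebraMap R S) (LinearMap.ker (LinearMap.toSpanSingleton R M m)) := by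
  let I : Ideal R := LinearMap.ker (LinearMap.toSpanSingleton R M m)
  let φ : R ⧸ I →ₗ[R] M := Submodule.liftQ I (LinearMap.toSpanSingleton R M m) le_rfl
  have hφ : Function.Injective φ := by
    rw [← LinearMap.ker_eq_bot]
    exact Submodule.ker_liftQ_eq_bot _ _ _ le_rfl
  have h1 := Module.Flat.lTensor_preserves_injective_linearMap (M := S) φ hφ
  ext s
  rw [LinearMap.mem_ker, LinearMap.toSpanSingleton_apply, TensorProduct.smul_tmul', smul_eq_mul, mul_one]
  have h2 : s ⊗ₜ[R] m = φ.lTensor S (s ⊗ₜ[R] (Ideal.Quotient.mk I 1)) := by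
    rw [LinearMap.lTensor_tmul]
    show _ = s ⊗ₜ[R] (LinearMap.toSpanSingleton R M m 1)
    rw [LinearMap.toSpanSingleton_apply, one_smul]
  rw [h2, map_eq_zero_iff _ h1, ← (TensorProduct.tensorQuotEquivQuotSMul S I).map_eq_zero_iff]
  rw [TensorProduct.tensorQuotEquivQuotSMul_tmul_mk, Submodule.Quotient.mk_eq_zero, one_smul,
    Ideal.smul_top_eq_map, Submodule.restrictScalars_mem]

variable {X S : Scheme.{u}}

theorem isWeakAssPoint_pullback_generic (f : X ⟶ S) (G : S.Modules) (x : X) (hfl : (f.stalkMap x).hom.Flat)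
    (hgen : ∀ y : X, f y = f x → y ⤳ x → y = x) (hs : Curv2.IsWeakAssPoint G (f x)) :
    Curv2.IsWeakAssPoint ((Scheme.Modules.pullback f).obj G) x := by
  obtain ⟨m, hm⟩ := hs
  let R : Type u := S.presheaf.stalk (f x)
  let B : Type u := X.presheaf.stalk x
  let M : Type u := G.presheaf.stalk (f x)
  letI : Algebra R B := (f.stalkMap x).hom.toAlgebra
  haveI : Module.Flat R B := hfl
  let e := ((KFlatLib.stalkPullbackIso f x).app G).toLinearEquiv
  let z : B ⊗[R] M := 1 ⊗ₜ[R] m
  refine ⟨e.symm z, ?_⟩
  have hann : LinearMap.ker (LinearMap.toSpanSingleton (X.presheaf.stalk x)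
      (((Scheme.Modules.pullback f).obj G).presheaf.stalk x) (e.symm z)) =
      LinearMap.ker (LinearMap.toSpanSingleton B (B ⊗[R] M) z) := by
    ext s
    rw [LinearMap.mem_ker, LinearMap.toSpanSingleton_apply, LinearMap.mem_ker, LinearMap.toSpanSingleton_apply]
    constructor
    · intro h
      have h1 := congrArg e h
      erw [map_smul, LinearEquiv.apply_symm_apply, map_zero] at h1
      exact h1
    · intro h
      have h1 := congrArg e.symm h
      erw [map_smul, map_zero] at h1
      exact h1
  rw [hann, exists_radical_flat (R := R) (S := B) (M := M) m]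
  let I : Ideal R := LinearMap.ker (LinearMap.toSpanSingleton R M m)
  change (I.map (algebraMap R B)).radical = IsLocalRing.maximalIdeal B
  have hIR : I.radical = IsLocalRing.maximalIdeal R := hm
  haveI : IsLocalHom (algebraMap R B) := inferInstanceAs (IsLocalHom (f.stalkMap x).hom)
  refine le_antisymm ?_ ?_
  · refine (IsLocalRing.maximalIdeal.isMaximal B).isPrime.radical_le_iff.mpr (Ideal.map_le_iff_le_comap.mpr ?_)
    intro r hr
    have hr' : r ∈ IsLocalRing.maximalIdeal R := hIR ▸ Ideal.le_radical hr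
    exact map_nonunit (algebraMap R B) r hr'
  · rw [Ideal.radical_eq_sInf]
    refine le_sInf fun P ⟨hPI, hP⟩ => ?_
    have hRP : IsLocalRing.maximalIdeal R ≤ P.comap (algebraMap R B) :=
      hIR ▸ (hP.comap _).radical_le_iff.mpr (Ideal.map_le_iff_le_comap.mp hPI)
    let a : PrimeSpectrum (X.presheaf.stalk x) := ⟨P, hP⟩
    have h1 : PrimeSpectrum.comap (f.stalkMap x).hom a = IsLocalRing.closedPoint (S.presheaf.stalk (f x)) :=
      PrimeSpectrum.ext (le_antisymm (IsLocalRing.le_maximalIdeal (hP.comap _).ne_top) hRP)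
    have h2 := DimFormula.fromSpecStalk_comm f x a
    rw [h1, Scheme.fromSpecStalk_closedPoint] at h2
    have h3 := hgen (X.fromSpecStalk x a) h2.symm (DimFormula.fromSpecStalk_specializes x a)
    have h4 : a = IsLocalRing.closedPoint (X.presheaf.stalk x) :=
      (X.fromSpecStalk x).isEmbedding.injective (h3.trans Scheme.fromSpecStalk_closedPoint.symm)
    exact (congrArg PrimeSpectrum.asIdeal h4).ge

end Groth.Agent.BlowUpX
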